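import Cfsg.Agent.SmallOrders.Filter

/-!
Certificates for the orders from 3641 to 6232, part 1.
-/

set_option autoImplicit false
set_option linter.style.longLine false

namespace CfsgLib.SmallOrdB

open CfsgLib.SmallOrd

/-- Orders from 4541 on. -/
def certs9 : List Cert :=
  [.two 19 1 239 1, .four, .syl 59 1 77, .two 2 6 71 1, .syl 101 1 45, .two 2 1 2273 1, .two 4547 1 4547 0, .syl 379 1 12, .two 4549 1 4549 0, .four, .syl 41 1 111, .two 2 3 569 1, .two 29 1 157 1, .four, .two 5 1 911 1, .syl 67 1 68, .syl 31 1 147, .four, .two 47 1 97 1, .syl 19 1 240, .two 4561 1 4561 0, .two 2 1 2281 1, .two 3 3 13 2, .syl 163 1 28, .syl 83 1 55, .four, .two 4567 1 4567 0, .two 2 3 571 1, .two 3 1 1523 1, .four, .two 7 1 653 1, .syl 127 1 36, .two 17 1 269 1, .two 2 1 2287 1, .syl 61 1 75, .syl 13 1 352, .two 23 1 199 1, .four, .two 19 1 241 1, .syl 229 1 20, .two 3 2 509 1, .four, .two 4583 1 4583 0, .syl 191 1 24, .syl 131 1 35, .two 2 1 2293 1, .syl 139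 1 33, .syl 37 1 124, .two 13 1 353 1, .four, .two 4591 1 4591 0, .syl 41 1 112, .two 3 1 1531 1, .two 2 1 2297 1, .two 5 1 919 1, .syl 383 1 12, .two 4597 1 4597 0, .four, .syl 73 1 63, .syl 23 1 200, .two 43 1 107 1, .four, .two 4603 1 4603 0, .two 2 2 1151 1, .syl 307 1 15, .four, .two 17 1 271 1, .two 2 9 3 2, .two 11 1 419 1, .four, .syl 53 1 87, .two 2 2 1153 1, .two 7 1 659 1, .four, .syl 71 1 65, .two 2 3 577 1, .two 3 5 19 1, .two 2 1 2309 1, .two 31 1 149 1, .keep, .two 4621 1 4621 0, .two 2 1 2311 1, .syl 67 1 69, .two 2 4 17 2, .two 5 3 37 1, .four, .two 7 1 661 1, .syl 89 1 52, .two 3 1 1543 1, .four, .two 11 1 421 1, .syl 193 1 24, .two 41 1 113 1, .four, .syl 103 1 45, .syl 61 1 76, .two 4637 1 4637 0, .four, .two 4639 1 4639 0, .syl 29 1 160]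

/-- The orders left among them. -/
def keeps9 : List ℕ := [4620]

theorem check9 : (certs9.zipIdx.all fun x => x.1.check (4541 + x.2)) = true := by decide +kernel

theorem keep9 : (certs9.zipIdx.all fun x => !(x.1 matches .keep) || decide (4541 + x.2 ∈ keeps9)) = true := by decide +kernel

/-- Orders from 4641 on. -/
def certs10 : List Cert :=
  [.syl 17 1 273, .four, .two 4643 1 4643 0, .syl 43 1 108, .two 5 1 929 1, .four, .two 3 1 1549 1, .syl 83 1 56, .two 4649 1 4649 0, .four, .two 4651 1 4651 0, .two 2 2 1163 1, .syl 47 1 99, .four, .syl 19 1 245, .syl 97 1 48, .two 4657 1 4657 0, .four, .two 3 1 1553 1, .syl 233 1 20, .two 59 1 79 1, .four, .two 4663 1 4663 0, .syl 53 1 88, .syl 311 1 15, .two 2 1 2333 1, .two 13 1 359 1, .syl 389 1 12, .syl 29 1 161, .four, .two 3 3 173 1, .two 2 6 73 1, .two 4673 1 4673 0, .four, .syl 17 1 275, .syl 167 1 28, .two 3 1 1559 1, .two 2 1 2339 1, .two 4679 1 4679 0, .keep, .two 31 1 151 1, .two 2 1 2341 1,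 .syl 223 1 21, .two 2 2 1171 1, .two 5 1 937 1, .four, .two 43 1 109 1, .two 2 4 293 1, .two 3 2 521 1, .four, .two 4691 1 4691 0, .syl 23 1 204, .two 13 1 19 2, .two 2 1 2347 1, .syl 313 1 15, .two 2 3 587 1, .syl 61 1 77, .four, .two 37 1 127 1, .syl 47 1 100, .two 3 1 1567 1, .two 2 1 2351 1, .two 4703 1 4703 0, .syl 7 2 96, .two 5 1 941 1, .four, .two 3 2 523 1, .syl 107 1 44, .two 17 1 277 1, .four, .two 7 1 673 1, .syl 31 1 152, .two 3 1 1571 1, .two 2 1 2357 1, .syl 41 1 115, .syl 131 1 36, .two 53 1 89 1, .four, .syl 13 1 363, .syl 59 1 80, .two 4721 1 4721 0, .four, .two 4723 1 4723 0, .two 2 2 1181 1, .keep, .four, .two 29 1 163 1, .syl 197 1 24, .two 4729 1 4729 0, .four, .syl 83 1 57, .keep, .two 4733 1 4733 0, .four, .two 5 1 947 1, .two 2 7 37 1, .two 3 1 1579 1, .four, .two 7 1 677 1, .syl 79 1 60]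

/-- The orders left among them. -/
def keeps10 : List ℕ := [4680, 4725, 4732]

theorem check10 : (certs10.zipIdx.all fun x => x.1.check (4641 + x.2)) = true := by decide +kernel

theorem keep10 : (certs10.zipIdx.all fun x => !(x.1 matches .keep) || decide (4641 + x.2 ∈ keeps10)) = true := by decide +kernel

/-- Orders from 4741 on. -/
def certs11 : List Cert :=
  [.two 11 1 431 1, .two 2 1 2371 1, .syl 31 1 153, .two 2 3 593 1, .syl 73 1 65, .four, .two 47 1 101 1, .two 2 2 1187 1, .two 3 1 1583 1, .four, .two 4751 1 4751 0, .syl 11 1 432, .two 7 2 97 1, .two 2 1 2377 1, .syl 317 1 15, .syl 41 1 116, .two 67 1 71 1, .four, .two 4759 1 4759 0, .keep, .two 3 2 23 2, .two 2 1 2381 1, .two 11 1 433 1, .syl 397 1 12, .two 5 1 953 1, .two 2 1 2383 1, .syl 227 1 21, .two 2 5 149 1, .two 19 1 251 1, .four, .two 13 1 367 1, .two 2 2 1193 1, .syl 43 1 111, .four, .two 5 2 191 1, .syl 199 1 24, .two 17 1 281 1, .two 2 1 2389 1, .two 3 4 59 1, .syl 239 1 20,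 .two 7 1 683 1, .four, .two 4783 1 4783 0, .syl 23 1 208, .syl 29 1 165, .two 2 1 2393 1, .two 4787 1 4787 0, .syl 19 1 252, .two 4789 1 4789 0, .four, .two 3 1 1597 1, .two 2 3 599 1, .two 4793 1 4793 0, .four, .syl 137 1 35, .syl 109 1 44, .syl 41 1 117, .two 2 1 2399 1, .two 4799 1 4799 0, .keep, .two 4801 1 4801 0, .two 2 1 7 4, .two 3 1 1601 1, .two 2 2 1201 1, .two 5 1 31 2, .four, .syl 23 1 209, .two 2 3 601 1, .syl 229 1 21, .four, .two 17 1 283 1, .syl 401 1 12, .two 4813 1 4813 0, .four, .syl 107 1 45, .syl 43 1 112, .two 4817 1 4817 0, .four, .two 61 1 79 1, .syl 241 1 20, .two 3 1 1607 1, .two 2 1 2411 1, .syl 53 1 91, .syl 67 1 72, .two 5 2 193 1, .four, .two 3 1 1609 1, .syl 71 1 68, .two 11 1 439 1, .four, .two 4831 1 4831 0, .two 2 5 151 1, .two 3 3 179 1, .two 2 1 2417 1, .two 5 1 967 1, .syl 31 1 156, .two 7 1 691 1, .four, .two 3 1 1613 1, .syl 11 2 40]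

/-- The orders left among them. -/
def keeps11 : List ℕ := [4760, 4800]

theorem check11 : (certs11.zipIdx.all fun x => x.1.check (4741 + x.2)) = true := by decide +kernel

theorem keep11 : (certs11.zipIdx.all fun x => !(x.1 matches .keep) || decide (4741 + x.2 ∈ keeps11)) = true := by decide +kernel

/-- Orders from 4841 on. -/
def certs12 : List Cert :=
  [.two 47 1 103 1, .four, .two 29 1 167 1, .syl 173 1 28, .syl 19 1 255, .two 2 1 2423 1, .two 37 1 131 1, .syl 101 1 48, .two 13 1 373 1, .four, .syl 11 1 441, .two 2 2 1213 1, .two 23 1 211 1, .four, .two 5 1 971 1, .two 2 3 607 1, .two 3 1 1619 1, .four, .two 43 1 113 1, .syl 3 5 20, .two 4861 1 4861 0, .four, .two 3 1 1621 1, .two 2 8 19 1, .syl 139 1 35, .four, .two 31 1 157 1, .two 2 2 1217 1, .two 3 2 541 1, .four, .two 4871 1 4871 0, .syl 29 1 168, .two 11 1 443 1, .two 2 1 2437 1, .syl 13 1 375, .syl 53 1 92, .two 4877 1 4877 0, .four, .syl 41 1 119, .syl 61 1 80, .two 3 1 1627 1, .two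 2 1 2441 1, .two 19 1 257 1, .syl 37 1 132, .two 5 1 977 1, .four, .two 3 3 181 1, .syl 47 1 104, .two 4889 1 4889 0, .four, .two 67 1 73 1, .two 2 2 1223 1, .syl 233 1 21, .two 2 1 2447 1, .syl 89 1 55, .syl 17 1 288, .two 59 1 83 1, .four, .syl 71 1 69, .keep, .two 13 2 29 1, .four, .two 4903 1 4903 0, .two 2 3 613 1, .syl 109 1 45, .four, .two 7 1 701 1, .syl 409 1 12, .two 4909 1 4909 0, .four, .two 3 1 1637 1, .two 2 4 307 1, .two 17 3 17 0, .four, .two 5 1 983 1, .two 2 2 1229 1, .syl 149 1 33, .two 2 1 2459 1, .two 4919 1 4919 0, .syl 41 1 120, .syl 37 1 133, .four, .two 3 2 547 1, .two 2 2 1231 1, .two 5 2 197 1, .four, .two 13 1 379 1, .keep, .syl 53 1 93, .four, .two 4931 1 4931 0, .syl 137 1 36, .two 4933 1 4933 0, .two 2 1 2467 1, .syl 47 1 105, .two 2 3 617 1, .two 4937 1 4937 0, .four, .two 11 1 449 1, .syl 19 1 260]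

/-- The orders left among them. -/
def keeps12 : List ℕ := [4900, 4928]

theorem check12 : (certs12.zipIdx.all fun x => x.1.check (4841 + x.2)) = true := by decide +kernel

theorem keep12 : (certs12.zipIdx.all fun x => !(x.1 matches .keep) || decide (4841 + x.2 ∈ keeps12)) = true := by decide +kernel

/-- Orders from 4941 on. -/
def certs13 : List Cert :=
  [.two 3 4 61 1, .four, .two 4943 1 4943 0, .syl 103 1 48, .syl 43 1 115, .two 2 1 2473 1, .syl 97 1 51, .two 2 2 1237 1, .two 7 2 101 1, .four, .two 4951 1 4951 0, .two 2 3 619 1, .syl 127 1 39, .two 2 1 2477 1, .two 5 1 991 1, .syl 59 1 84, .two 4957 1 4957 0, .four, .syl 29 1 171, .keep, .two 11 2 41 1, .four, .two 7 1 709 1, .syl 73 1 68, .syl 331 1 15, .four, .two 4967 1 4967 0, .syl 23 1 216, .two 4969 1 4969 0, .four, .two 3 1 1657 1, .syl 113 1 44, .two 4973 1 4973 0, .four, .two 5 2 199 1, .two 2 4 311 1, .syl 79 1 63, .four, .two 13 1 383 1, .syl 83 1 60, .two 17 1 293 1, .four, .syl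 151 1 33, .syl 89 1 56, .two 5 1 997 1, .four, .two 4987 1 4987 0, .syl 43 1 116, .two 3 1 1663 1, .four, .syl 31 1 161, .syl 13 1 384, .two 4993 1 4993 0, .four, .syl 37 1 135, .two 2 2 1249 1, .two 19 1 263 1, .four, .two 4999 1 4999 0, .two 2 3 5 4, .two 3 1 1667 1, .four, .two 5003 1 5003 0, .syl 139 1 36, .syl 13 1 385, .two 2 1 2503 1, .two 3 1 1669 1, .two 2 4 313 1, .two 5009 1 5009 0, .four, .two 5011 1 5011 0, .syl 179 1 28, .two 3 2 557 1, .four, .syl 59 1 85, .syl 19 1 264, .two 29 1 173 1, .four, .syl 239 1 21, .syl 251 1 20, .two 5021 1 5021 0, .four, .two 5023 1 5023 0, .two 2 5 157 1, .syl 67 1 75, .four, .two 11 1 457 1, .syl 419 1 12, .two 47 1 107 1, .four, .syl 43 1 117, .syl 37 1 136, .two 7 1 719 1, .four, .syl 53 1 95, .two 2 2 1259 1, .syl 73 1 69, .four, .two 5039 1 5039 0, .keep]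

/-- The orders left among them. -/
def keeps13 : List ℕ := [4960, 5040]

theorem check13 : (certs13.zipIdx.all fun x => x.1.check (4941 + x.2)) = true := by decide +kernel

theorem keep13 : (certs13.zipIdx.all fun x => !(x.1 matches .keep) || decide (4941 + x.2 ∈ keeps13)) = true := by decide +kernel

/-- Orders from 5041 on. -/
def certs14 : List Cert :=
  [.two 71 2 71 0, .two 2 1 2521 1, .two 3 1 41 2, .syl 97 1 52, .two 5 1 1009 1, .four, .two 7 2 103 1, .two 2 3 631 1, .syl 17 1 297, .four, .two 5051 1 5051 0, .syl 421 1 12, .two 31 1 163 1, .four, .syl 337 1 15, .two 2 6 79 1, .two 13 1 389 1, .four, .two 5059 1 5059 0, .syl 23 1 220, .syl 241 1 21, .two 2 1 2531 1, .two 61 1 83 1, .syl 211 1 24, .two 5 1 1013 1, .four, .two 3 2 563 1, .syl 181 1 28, .two 37 1 137 1, .four, .two 11 1 461 1, .two 2 4 317 1, .syl 89 1 57, .four, .syl 29 1 175, .syl 47 1 108, .two 5077 1 5077 0, .two 2 1 2539 1, .two 3 1 1693 1, .syl 127 1 40, .two 5081 1 5081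 0, .four, .syl 23 1 221, .syl 41 1 124, .syl 113 1 45, .two 2 1 2543 1, .two 5087 1 5087 0, .syl 53 1 96, .two 7 1 727 1, .four, .two 3 1 1697 1, .syl 67 1 76, .two 11 1 463 1, .four, .two 5 1 1019 1, .syl 7 2 104, .two 3 1 1699 1, .two 2 1 2549 1, .two 5099 1 5099 0, .syl 17 1 300, .two 5101 1 5101 0, .two 2 1 2551 1, .two 3 6 7 1, .keep, .two 5 1 1021 1, .four, .two 5107 1 5107 0, .two 2 2 1277 1, .syl 131 1 39, .four, .two 19 1 269 1, .syl 71 1 72, .two 5113 1 5113 0, .two 2 1 2557 1, .syl 31 1 165, .two 2 2 1279 1, .syl 43 1 119, .four, .two 5119 1 5119 0, .two 2 10 5 1, .two 3 2 569 1, .four, .two 47 1 109 1, .syl 61 1 84, .two 5 3 41 1, .four, .two 3 1 1709 1, .two 2 3 641 1, .two 23 1 223 1, .four, .two 7 1 733 1, .two 2 2 1283 1, .syl 59 1 87, .four, .syl 79 1 65, .syl 107 1 48, .two 11 1 467 1, .four, .two 3 2 571 1, .syl 257 1 20]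

/-- The orders left among them. -/
def keeps14 : List ℕ := [5104]

theorem check14 : (certs14.zipIdx.all fun x => x.1.check (5041 + x.2)) = true := by decide +kernel

theorem keep14 : (certs14.zipIdx.all fun x => !(x.1 matches .keep) || decide (5041 + x.2 ∈ keeps14)) = true := by decide +kernel

/-- Orders from 5141 on. -/
def certs15 : List Cert :=
  [.two 53 1 97 1, .four, .two 37 1 139 1, .two 2 3 643 1, .syl 5 1 1029, .four, .two 5147 1 5147 0, .keep, .two 19 1 271 1, .four, .syl 101 1 51, .syl 23 1 224, .two 5153 1 5153 0, .four, .two 5 1 1031 1, .two 2 2 1289 1, .two 3 3 191 1, .two 2 1 2579 1, .syl 67 1 77, .syl 43 1 120, .two 13 1 397 1, .four, .two 3 1 1721 1, .two 2 2 1291 1, .two 5 1 1033 1, .four, .two 5167 1 5167 0, .syl 19 1 272, .two 3 1 1723 1, .four, .two 5171 1 5171 0, .syl 431 1 12, .two 7 1 739 1, .four, .syl 23 1 225, .two 2 3 647 1, .two 31 1 167 1, .four, .two 5179 1 5179 0, .syl 37 1 140, .syl 157 1 33, .two 2 1 2591 1,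 .two 71 1 73 1, .two 2 6 3 4, .syl 61 1 85, .two 2 1 2593 1, .syl 19 1 273, .two 2 2 1297 1, .two 5189 1 5189 0, .four, .two 29 1 179 1, .syl 59 1 88, .two 3 2 577 1, .four, .two 5 1 1039 1, .syl 433 1 12, .two 5197 1 5197 0, .four, .two 3 1 1733 1, .keep, .two 7 1 743 1, .four, .two 11 2 43 1, .two 2 2 1301 1, .syl 347 1 15, .four, .two 41 1 127 1, .syl 31 1 168, .two 5209 1 5209 0, .four, .two 3 3 193 1, .two 2 2 1303 1, .two 13 1 401 1, .four, .syl 149 1 35, .two 2 5 163 1, .syl 47 1 111, .two 2 1 2609 1, .two 17 1 307 1, .syl 29 1 180, .two 23 1 227 1, .four, .two 3 1 1741 1, .two 2 3 653 1, .syl 19 1 275, .four, .two 5227 1 5227 0, .two 2 2 1307 1, .syl 83 1 63, .four, .two 5231 1 5231 0, .syl 109 1 48, .two 5233 1 5233 0, .two 2 1 2617 1, .syl 349 1 15, .keep, .two 5237 1 5237 0, .four, .two 13 2 31 1, .syl 131 1 40]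

/-- The orders left among them. -/
def keeps15 : List ℕ := [5148, 5200, 5236]

theorem check15 : (certs15.zipIdx.all fun x => x.1.check (5141 + x.2)) = true := by decide +kernel

theorem keep15 : (certs15.zipIdx.all fun x => !(x.1 matches .keep) || decide (5141 + x.2 ∈ keeps15)) = true := by decide +kernel

/-- Orders from 5241 on. -/
def certs16 : List Cert :=
  [.two 3 1 1747 1, .two 2 1 2621 1, .two 7 2 107 1, .syl 23 1 228, .two 5 1 1049 1, .four, .syl 53 1 99, .two 2 7 41 1, .two 29 1 181 1, .four, .two 59 1 89 1, .syl 101 1 52, .syl 103 1 51, .four, .two 5 1 1051 1, .syl 73 1 72, .two 7 1 751 1, .four, .two 3 1 1753 1, .syl 263 1 20, .two 5261 1 5261 0, .four, .two 19 1 277 1, .syl 47 1 112, .syl 5 1 1053, .two 2 1 2633 1, .two 23 1 229 1, .syl 439 1 12, .two 11 1 479 1, .four, .syl 251 1 21, .two 2 3 659 1, .two 5273 1 5273 0, .four, .two 5 2 211 1, .two 2 2 1319 1, .two 3 1 1759 1, .four, .two 5279 1 5279 0, .syl 11 1 480, .two 5281 1 5281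 0, .four, .two 3 2 587 1, .two 2 2 1321 1, .syl 151 1 35, .four, .two 17 1 311 1, .two 2 3 661 1, .syl 43 1 123, .four, .syl 37 1 143, .keep, .two 67 1 79 1, .two 2 1 2647 1, .syl 353 1 15, .two 2 4 331 1, .two 5297 1 5297 0, .four, .two 7 1 757 1, .syl 53 1 100, .syl 31 1 171, .four, .two 5303 1 5303 0, .syl 13 1 408, .two 5 1 1061 1, .four, .syl 61 1 87, .two 2 2 1327 1, .two 5309 1 5309 0, .four, .two 47 1 113 1, .two 2 6 83 1, .syl 23 1 231, .two 2 1 2657 1, .two 5 1 1063 1, .syl 443 1 12, .two 13 1 409 1, .two 2 1 2659 1, .two 3 3 197 1, .syl 19 1 280, .two 17 1 313 1, .four, .two 5323 1 5323 0, .two 2 2 11 3, .syl 71 1 75, .two 2 1 2663 1, .two 7 1 761 1, .syl 37 1 144, .two 73 2 73 0, .four, .two 3 1 1777 1, .syl 43 1 124, .two 5333 1 5333 0, .four, .syl 97 1 55, .syl 29 1 184, .two 3 2 593 1, .four, .two 19 1 281 1, .syl 89 1 60]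

/-- The orders left among them. -/
def keeps16 : List ℕ := [5292]

theorem check16 : (certs16.zipIdx.all fun x => x.1.check (5241 + x.2)) = true := by decide +kernel

theorem keep16 : (certs16.zipIdx.all fun x => !(x.1 matches .keep) || decide (5241 + x.2 ∈ keeps16)) = true := by decide +kernel

/-- Orders from 5341 on. -/
def certs17 : List Cert :=
  [.two 7 2 109 1, .two 2 1 2671 1, .syl 137 1 39, .two 2 5 167 1, .two 5 1 1069 1, .four, .two 5347 1 5347 0, .syl 191 1 28, .two 3 1 1783 1, .four, .two 5351 1 5351 0, .syl 223 1 24, .two 53 1 101 1, .two 2 1 2677 1, .syl 17 1 315, .syl 103 1 52, .two 11 1 487 1, .four, .two 23 1 233 1, .syl 67 1 80, .two 3 1 1787 1, .four, .two 31 1 173 1, .syl 149 1 36, .syl 37 1 145, .two 2 1 2683 1, .two 3 1 1789 1, .syl 61 1 88, .syl 59 1 91, .four, .two 41 1 131 1, .syl 79 1 68, .two 3 3 199 1, .two 2 1 2687 1, .two 5 3 43 1, .keep, .two 19 1 283 1, .two 2 1 2689 1, .syl 163 1 33, .syl 269 1 20, .two 5381 1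 5381 0, .four, .two 7 1 769 1, .two 2 3 673 1, .syl 359 1 15, .two 2 1 2693 1, .two 5387 1 5387 0, .syl 449 1 12, .two 17 1 317 1, .four, .two 3 2 599 1, .two 2 4 337 1, .two 5393 1 5393 0, .four, .syl 83 1 65, .syl 71 1 76, .syl 257 1 21, .two 2 1 2699 1, .two 5399 1 5399 0, .keep, .two 11 1 491 1, .four, .two 3 1 1801 1, .syl 193 1 28, .syl 47 1 115, .four, .two 5407 1 5407 0, .two 2 5 13 2, .two 3 2 601 1, .four, .two 7 1 773 1, .syl 41 1 132, .two 5413 1 5413 0, .two 2 1 2707 1, .syl 19 2 15, .two 2 3 677 1, .two 5417 1 5417 0, .four, .two 5419 1 5419 0, .syl 271 1 20, .syl 139 1 39, .two 2 1 2711 1, .syl 29 1 187, .syl 113 1 48, .syl 31 1 175, .two 2 1 2713 1, .two 3 4 67 1, .syl 59 1 92, .two 61 1 89 1, .four, .two 5431 1 5431 0, .syl 97 1 56, .two 3 1 1811 1, .four, .two 5 1 1087 1, .syl 151 1 36, .two 5437 1 5437 0, .two 2 1 2719 1, .syl 37 1 147, .syl 17 1 320]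

/-- The orders left among them. -/
def keeps17 : List ℕ := [5376, 5400]

theorem check17 : (certs17.zipIdx.all fun x => x.1.check (5341 + x.2)) = true := by decide +kernel

theorem keep17 : (certs17.zipIdx.all fun x => !(x.1 matches .keep) || decide (5341 + x.2 ∈ keeps17)) = true := by decide +kernel

end CfsgLib.SmallOrdB
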