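import Cfsg.Agent.SmallOrders.Filter

/-!
Certificates for the orders from 3641 to 6232, part 2.
-/

set_option autoImplicit false
set_option linter.style.longLine false

namespace CfsgLib.SmallOrdB

open CfsgLib.SmallOrd

/-- Orders from 5441 on. -/
def certs18 : List Cert :=
  [.two 5441 1 5441 0, .four, .two 5443 1 5443 0, .two 2 2 1361 1, .syl 5 1 1089, .four, .two 13 1 419 1, .syl 227 1 24, .two 5449 1 5449 0, .four, .syl 79 1 69, .syl 47 1 116, .syl 41 1 133, .four, .two 5 1 1091 1, .syl 31 1 176, .syl 107 1 51, .two 2 1 2729 1, .two 53 1 103 1, .keep, .two 43 1 127 1, .two 2 1 2731 1, .two 3 2 607 1, .two 2 3 683 1, .two 5 1 1093 1, .four, .syl 71 1 77, .two 2 2 1367 1, .two 3 1 1823 1, .four, .two 5471 1 5471 0, .keep, .two 13 1 421 1, .four, .syl 73 1 75, .two 2 2 37 2, .two 5477 1 5477 0, .four, .two 5479 1 5479 0, .syl 137 1 40, .syl 29 1 189, .two 2 1 2741 1, .two 5483 1 5483 0, .syl 457 1 12, .two 5 1 1097 1, .four, .syl 59 1 93, .two 2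 4 7 3, .two 11 1 499 1, .four, .two 17 2 19 1, .two 2 2 1373 1, .two 3 1 1831 1, .four, .syl 157 1 35, .syl 229 1 24, .two 23 1 239 1, .two 2 1 2749 1, .syl 47 1 117, .syl 5 3 44, .two 5501 1 5501 0, .four, .two 5503 1 5503 0, .two 2 7 43 1, .syl 367 1 15, .two 2 1 2753 1, .two 5507 1 5507 0, .syl 17 1 324, .two 7 1 787 1, .four, .syl 167 1 33, .syl 53 1 104, .two 37 1 149 1, .four, .two 5 1 1103 1, .syl 197 1 28, .two 3 2 613 1, .four, .two 5519 1 5519 0, .syl 23 1 240, .two 5521 1 5521 0, .four, .syl 263 1 21, .two 2 2 1381 1, .syl 17 1 325, .four, .two 5527 1 5527 0, .two 2 3 691 1, .syl 97 1 57, .four, .two 5531 1 5531 0, .syl 461 1 12, .two 11 1 503 1, .two 2 1 2767 1, .syl 41 1 135, .two 2 5 173 1, .two 7 2 113 1, .four, .two 29 1 191 1, .syl 277 1 20]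

/-- The orders left among them. -/
def keeps18 : List ℕ := [5460, 5472]

theorem check18 : (certs18.zipIdx.all fun x => x.1.check (5441 + x.2)) = true := by decide +kernel

theorem keep18 : (certs18.zipIdx.all fun x => !(x.1 matches .keep) || decide (5441 + x.2 ∈ keeps18)) = true := by decide +kernel

/-- Orders from 5541 on. -/
def certs19 : List Cert :=
  [.two 3 1 1847 1, .four, .two 23 1 241 1, .syl 11 1 504, .two 5 1 1109 1, .four, .two 3 1 43 2, .syl 73 1 76, .two 31 1 179 1, .four, .syl 61 1 91, .two 2 4 347 1, .two 3 2 617 1, .two 2 1 2777 1, .syl 101 1 55, .syl 463 1 12, .two 5557 1 5557 0, .four, .syl 109 1 51, .syl 139 1 40, .two 67 1 83 1, .four, .two 5563 1 5563 0, .syl 107 1 52, .syl 53 1 105, .four, .two 19 1 293 1, .syl 29 1 192, .two 5569 1 5569 0, .four, .two 3 2 619 1, .syl 199 1 28, .two 5573 1 5573 0, .four, .two 5 2 223 1, .syl 41 1 136, .syl 13 2 33, .two 2 1 2789 1, .two 7 1 797 1, .syl 31 1 180, .two 5581 1 5581 0, .two 2 1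 2791 1, .two 3 1 1861 1, .two 2 4 349 1, .two 5 1 1117 1, .four, .two 37 1 151 1, .syl 127 1 44, .two 3 5 23 1, .four, .two 5591 1 5591 0, .syl 233 1 24, .syl 47 1 119, .two 2 1 2797 1, .syl 373 1 15, .two 2 2 1399 1, .two 29 1 193 1, .four, .two 11 1 509 1, .keep, .two 3 1 1867 1, .two 2 1 2801 1, .two 13 1 431 1, .syl 467 1 12, .syl 59 1 95, .two 2 1 2803 1, .syl 89 1 63, .two 2 3 701 1, .two 71 1 79 1, .four, .two 31 1 181 1, .syl 61 1 92, .two 3 1 1871 1, .four, .two 5 1 1123 1, .keep, .two 41 1 137 1, .two 2 1 53 2, .two 3 1 1873 1, .syl 281 1 20, .syl 73 1 77, .four, .two 5623 1 5623 0, .syl 37 1 152, .two 3 2 5 4, .four, .two 17 1 331 1, .syl 67 1 84, .two 13 1 433 1, .four, .two 3 1 1877 1, .two 2 9 11 1, .two 43 1 131 1, .four, .syl 23 1 245, .two 2 2 1409 1, .two 3 1 1879 1, .two 2 1 2819 1, .two 5639 1 5639 0, .syl 47 1 120]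

/-- The orders left among them. -/
def keeps19 : List ℕ := [5600, 5616]

theorem check19 : (certs19.zipIdx.all fun x => x.1.check (5541 + x.2)) = true := by decide +kernel

theorem keep19 : (certs19.zipIdx.all fun x => !(x.1 matches .keep) || decide (5541 + x.2 ∈ keeps19)) = true := by decide +kernel

/-- Orders from 5641 on. -/
def certs20 : List Cert :=
  [.two 5641 1 5641 0, .four, .syl 19 1 297, .syl 83 1 68, .two 5 1 1129 1, .four, .two 5647 1 5647 0, .two 2 4 353 1, .syl 269 1 21, .four, .two 5651 1 5651 0, .syl 157 1 36, .two 5653 1 5653 0, .four, .syl 29 1 195, .syl 101 1 56, .two 5657 1 5657 0, .four, .two 5659 1 5659 0, .syl 283 1 20, .syl 37 1 153, .four, .two 7 1 809 1, .syl 59 1 96, .syl 103 1 55, .two 2 1 2833 1, .two 3 1 1889 1, .syl 109 1 52, .two 5669 1 5669 0, .four, .two 53 1 107 1, .two 2 3 709 1, .syl 61 1 93, .two 2 1 2837 1, .two 5 2 227 1, .syl 43 1 132, .two 7 1 811 1, .four, .two 3 2 631 1, .syl 71 1 80, .syl 23 1 247, .four,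 .two 5683 1 5683 0, .syl 29 1 196, .syl 379 1 15, .two 2 1 2843 1, .two 11 2 47 1, .syl 79 1 72, .two 5689 1 5689 0, .four, .syl 271 1 21, .two 2 2 1423 1, .two 5693 1 5693 0, .four, .syl 67 1 85, .two 2 6 89 1, .two 3 3 211 1, .four, .two 41 1 139 1, .syl 19 1 300, .two 5701 1 5701 0, .two 2 1 2851 1, .two 3 1 1901 1, .syl 31 1 184, .syl 163 1 35, .four, .two 13 1 439 1, .two 2 2 1427 1, .syl 173 1 33, .four, .two 5711 1 5711 0, .syl 17 1 336, .two 29 1 197 1, .two 2 1 2857 1, .syl 127 1 45, .two 2 2 1429 1, .two 5717 1 5717 0, .four, .syl 43 1 133, .syl 13 1 440, .two 3 1 1907 1, .two 2 1 2861 1, .two 59 1 97 1, .syl 53 1 108, .two 5 2 229 1, .four, .syl 83 1 69, .two 2 5 179 1, .two 17 1 337 1, .four, .two 11 1 521 1, .two 2 2 1433 1, .syl 13 1 441, .four, .syl 37 1 155, .syl 239 1 24, .two 5737 1 5737 0, .four, .two 3 1 1913 1, .syl 41 1 140]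

/-- The orders left among them. -/
def keeps20 : List ℕ := []

theorem check20 : (certs20.zipIdx.all fun x => x.1.check (5641 + x.2)) = true := by decide +kernel

theorem keep20 : (certs20.zipIdx.all fun x => !(x.1 matches .keep) || decide (5641 + x.2 ∈ keeps20)) = true := by decide +kernel

/-- Orders from 5741 on. -/
def certs21 : List Cert :=
  [.two 5741 1 5741 0, .four, .two 5743 1 5743 0, .two 2 4 359 1, .syl 383 1 15, .four, .two 7 1 821 1, .syl 479 1 12, .two 5749 1 5749 0, .four, .two 3 4 71 1, .two 2 3 719 1, .two 11 1 523 1, .four, .two 5 1 1151 1, .two 2 2 1439 1, .syl 101 1 57, .two 2 1 2879 1, .two 13 1 443 1, .keep, .two 7 1 823 1, .four, .syl 113 1 51, .syl 131 1 44, .two 5 1 1153 1, .four, .two 73 1 79 1, .syl 103 1 56, .two 3 2 641 1, .four, .two 29 1 199 1, .syl 37 1 156, .two 23 1 251 1, .two 2 1 2887 1, .syl 11 1 525, .two 2 4 19 2, .two 53 1 109 1, .four, .two 5779 1 5779 0, .syl 17 2 20, .syl 47 1 123, .four, .two 5783 1 5783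 0, .syl 241 1 24, .syl 89 1 65, .four, .two 3 2 643 1, .two 2 2 1447 1, .two 7 1 827 1, .four, .two 5791 1 5791 0, .two 2 5 181 1, .two 3 1 1931 1, .two 2 1 2897 1, .syl 61 1 95, .syl 23 1 252, .syl 31 1 187, .four, .two 3 1 1933 1, .syl 29 1 200, .two 5801 1 5801 0, .four, .two 7 1 829 1, .two 2 2 1451 1, .syl 43 1 135, .two 2 1 2903 1, .two 5807 1 5807 0, .syl 11 2 48, .two 37 1 157 1, .four, .syl 149 1 39, .two 2 2 1453 1, .two 5813 1 5813 0, .four, .two 5 1 1163 1, .two 2 3 727 1, .syl 277 1 21, .two 2 1 2909 1, .two 11 1 23 2, .syl 97 1 60, .two 5821 1 5821 0, .four, .two 3 2 647 1, .syl 13 1 448, .two 5 2 233 1, .four, .two 5827 1 5827 0, .syl 47 1 124, .syl 67 1 87, .four, .two 7 3 17 1, .two 2 3 3 6, .two 19 1 307 1, .two 2 1 2917 1, .syl 389 1 15, .two 2 2 1459 1, .two 13 1 449 1, .four, .two 5839 1 5839 0, .syl 73 1 80]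

/-- The orders left among them. -/
def keeps21 : List ℕ := [5760]

theorem check21 : (certs21.zipIdx.all fun x => x.1.check (5741 + x.2)) = true := by decide +kernel

theorem keep21 : (certs21.zipIdx.all fun x => !(x.1 matches .keep) || decide (5741 + x.2 ∈ keeps21)) = true := by decide +kernel

/-- Orders from 5841 on. -/
def certs22 : List Cert :=
  [.syl 59 1 99, .four, .two 5843 1 5843 0, .syl 487 1 12, .syl 167 1 35, .four, .two 3 1 1949 1, .syl 43 1 136, .two 5849 1 5849 0, .four, .two 5851 1 5851 0, .keep, .two 3 1 1951 1, .two 2 1 2927 1, .two 5 1 1171 1, .syl 61 1 96, .two 5857 1 5857 0, .four, .syl 7 1 837, .syl 293 1 20, .two 5861 1 5861 0, .four, .syl 41 1 143, .two 2 3 733 1, .syl 23 1 255, .four, .two 5867 1 5867 0, .syl 163 1 36, .two 5869 1 5869 0, .four, .syl 103 1 57, .two 2 4 367 1, .two 7 1 839 1, .four, .two 5 3 47 1, .syl 113 1 52, .two 3 2 653 1, .two 2 1 2939 1, .two 5879 1 5879 0, .keep, .two 5881 1 5881 0, .four, .syl 53 1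 111, .two 2 2 1471 1, .syl 107 1 55, .four, .two 7 1 29 2, .two 2 8 23 1, .syl 151 1 39, .four, .two 43 1 137 1, .syl 491 1 12, .two 71 1 83 1, .four, .syl 131 1 45, .syl 67 1 88, .two 5897 1 5897 0, .four, .two 17 1 347 1, .syl 59 1 100, .syl 281 1 21, .four, .two 5903 1 5903 0, .syl 41 1 144, .two 5 1 1181 1, .two 2 1 2953 1, .syl 179 1 33, .syl 211 1 28, .two 19 1 311 1, .four, .two 23 1 257 1, .two 2 3 739 1, .two 3 4 73 1, .two 2 1 2957 1, .syl 13 2 35, .syl 29 1 204, .two 61 1 97 1, .four, .two 3 1 1973 1, .syl 37 1 160, .two 31 1 191 1, .four, .two 5923 1 5923 0, .two 2 2 1481 1, .syl 79 1 75, .two 2 1 2963 1, .two 5927 1 5927 0, .syl 13 1 456, .two 7 2 11 2, .four, .two 3 2 659 1, .two 2 2 1483 1, .two 17 1 349 1, .four, .two 5 1 1187 1, .syl 53 1 112, .two 3 1 1979 1, .two 2 1 2969 1, .two 5939 1 5939 0, .keep]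

/-- The orders left among them. -/
def keeps22 : List ℕ := [5852, 5880, 5940]

theorem check22 : (certs22.zipIdx.all fun x => x.1.check (5841 + x.2)) = true := by decide +kernel

theorem keep22 : (certs22.zipIdx.all fun x => !(x.1 matches .keep) || decide (5841 + x.2 ∈ keeps22)) = true := by decide +kernel

/-- Orders from 5941 on. -/
def certs23 : List Cert :=
  [.two 13 1 457 1, .two 2 1 2971 1, .syl 283 1 21, .two 2 3 743 1, .syl 41 1 145, .four, .two 19 1 313 1, .two 2 2 1487 1, .two 3 2 661 1, .four, .two 11 1 541 1, .syl 31 1 192, .two 5953 1 5953 0, .four, .syl 397 1 15, .two 2 2 1489 1, .syl 37 1 161, .four, .two 59 1 101 1, .syl 149 1 40, .two 3 1 1987 1, .four, .two 67 1 89 1, .syl 71 1 84, .two 5 1 1193 1, .four, .syl 17 1 351, .two 2 4 373 1, .two 47 1 127 1, .four, .two 7 1 853 1, .two 2 2 1493 1, .syl 181 1 33, .four, .two 5 2 239 1, .syl 83 1 72, .two 43 1 139 1, .four, .two 3 1 1993 1, .syl 23 1 260, .two 5981 1 5981 0, .four, .two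 31 1 193 1, .syl 17 1 352, .syl 19 1 315, .four, .two 5987 1 5987 0, .syl 499 1 12, .two 53 1 113 1, .four, .two 3 1 1997 1, .syl 107 1 56, .two 13 1 461 1, .four, .syl 109 1 55, .two 2 2 1499 1, .two 3 1 1999 1, .two 2 1 2999 1, .two 7 1 857 1, .keep, .two 17 1 353 1, .two 2 1 3001 1, .syl 29 1 207, .syl 79 1 76, .two 5 1 1201 1, .four, .two 6007 1 6007 0, .two 2 3 751 1, .two 3 1 2003 1, .four, .two 6011 1 6011 0, .syl 167 1 36, .two 7 1 859 1, .four, .syl 401 1 15, .two 2 7 47 1, .two 11 1 547 1, .four, .two 13 1 463 1, .syl 43 1 140, .two 3 3 223 1, .two 2 1 3011 1, .two 19 1 317 1, .syl 251 1 24, .two 5 2 241 1, .four, .syl 41 1 147, .syl 137 1 44, .two 6029 1 6029 0, .four, .two 37 1 163 1, .syl 29 1 208, .two 3 1 2011 1, .four, .syl 71 1 85, .syl 503 1 12, .two 6037 1 6037 0, .two 2 1 3019 1, .syl 61 1 99, .syl 151 1 40]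

/-- The orders left among them. -/
def keeps23 : List ℕ := [6000]

theorem check23 : (certs23.zipIdx.all fun x => x.1.check (5941 + x.2)) = true := by decide +kernel

theorem keep23 : (certs23.zipIdx.all fun x => !(x.1 matches .keep) || decide (5941 + x.2 ∈ keeps23)) = true := by decide +kernel

/-- Orders from 6041 on. -/
def certs24 : List Cert :=
  [.two 7 1 863 1, .four, .two 6043 1 6043 0, .two 2 2 1511 1, .syl 31 1 195, .two 2 1 3023 1, .two 6047 1 6047 0, .keep, .two 23 1 263 1, .four, .two 3 1 2017 1, .syl 89 1 68, .two 6053 1 6053 0, .four, .syl 173 1 35, .two 2 3 757 1, .two 3 2 673 1, .four, .two 73 1 83 1, .syl 101 1 60, .syl 29 1 209, .four, .syl 47 1 129, .two 2 4 379 1, .two 5 1 1213 1, .four, .two 6067 1 6067 0, .syl 41 1 148, .syl 17 2 21, .four, .two 13 1 467 1, .keep, .two 6073 1 6073 0, .two 2 1 3037 1, .two 3 5 5 2, .syl 31 1 196, .two 59 1 103 1, .four, .two 6079 1 6079 0, .syl 19 1 320, .two 3 1 2027 1, .two 2 1 3041 1, .syl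 79 1 77, .syl 13 2 36, .two 5 1 1217 1, .four, .two 3 1 2029 1, .two 2 3 761 1, .two 6089 1 6089 0, .four, .two 6091 1 6091 0, .two 2 2 1523 1, .two 3 2 677 1, .four, .syl 53 1 115, .syl 127 1 48, .syl 67 1 91, .two 2 1 3049 1, .syl 107 1 57, .syl 61 1 100, .two 6101 1 6101 0, .four, .two 17 1 359 1, .syl 109 1 56, .syl 37 1 165, .four, .two 31 1 197 1, .syl 509 1 12, .two 41 1 149 1, .four, .syl 97 1 63, .two 2 5 191 1, .two 6113 1 6113 0, .four, .two 5 1 1223 1, .syl 139 1 44, .two 3 1 2039 1, .four, .two 29 1 211 1, .syl 17 1 360, .two 6121 1 6121 0, .two 2 1 3061 1, .syl 157 1 39, .two 2 2 1531 1, .two 5 3 7 2, .four, .two 11 1 557 1, .two 2 4 383 1, .two 3 3 227 1, .four, .two 6131 1 6131 0, .syl 73 1 84, .two 6133 1 6133 0, .two 2 1 3067 1, .syl 409 1 15, .syl 59 1 104, .two 17 1 19 2, .four, .two 7 1 877 1, .syl 307 1 20]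

/-- The orders left among them. -/
def keeps24 : List ℕ := [6048, 6072]

theorem check24 : (certs24.zipIdx.all fun x => x.1.check (6041 + x.2)) = true := by decide +kernel

theorem keep24 : (certs24.zipIdx.all fun x => !(x.1 matches .keep) || decide (6041 + x.2 ∈ keeps24)) = true := by decide +kernel

/-- Orders from 6141 on. -/
def certs25 : List Cert :=
  [.syl 89 1 69, .four, .two 6143 1 6143 0, .two 2 11 3 1, .two 5 1 1229 1, .four, .two 3 2 683 1, .syl 53 1 116, .syl 43 1 143, .four, .two 6151 1 6151 0, .two 2 3 769 1, .syl 293 1 21, .four, .two 5 1 1231 1, .syl 19 1 324, .two 47 1 131 1, .two 2 1 3079 1, .two 3 1 2053 1, .keep, .two 61 1 101 1, .four, .two 6163 1 6163 0, .syl 67 1 92, .syl 137 1 45, .two 2 1 3083 1, .two 7 1 881 1, .syl 257 1 24, .two 31 1 199 1, .four, .syl 17 1 363, .two 2 2 1543 1, .two 6173 1 6173 0, .four, .syl 19 1 325, .two 2 5 193 1, .syl 71 1 87, .two 2 1 3089 1, .two 37 1 167 1, .syl 103 1 60, .two 7 1 883 1, .four,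 .two 3 3 229 1, .two 2 3 773 1, .two 5 1 1237 1, .four, .two 23 1 269 1, .syl 17 1 364, .two 3 1 2063 1, .four, .two 41 1 151 1, .syl 43 1 144, .two 11 1 563 1, .four, .syl 59 1 105, .two 2 2 1549 1, .two 6197 1 6197 0, .four, .two 6199 1 6199 0, .syl 31 1 200, .syl 53 1 117, .four, .two 6203 1 6203 0, .syl 47 1 132, .syl 73 1 85, .four, .two 3 1 2069 1, .two 2 6 97 1, .two 7 1 887 1, .four, .two 6211 1 6211 0, .two 2 2 1553 1, .syl 109 1 57, .four, .syl 113 1 55, .syl 37 1 168, .two 6217 1 6217 0, .two 2 1 3109 1, .two 3 2 691 1, .syl 311 1 20, .two 6221 1 6221 0, .four, .two 7 2 127 1, .two 2 4 389 1, .syl 83 1 75, .four, .two 13 1 479 1, .syl 173 1 36, .two 6229 1 6229 0, .four, .syl 67 1 93, .syl 41 1 152]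

/-- The orders left among them. -/
def keeps25 : List ℕ := [6160]

theorem check25 : (certs25.zipIdx.all fun x => x.1.check (6141 + x.2)) = true := by decide +kernel

theorem keep25 : (certs25.zipIdx.all fun x => !(x.1 matches .keep) || decide (6141 + x.2 ∈ keeps25)) = true := by decide +kernel

end CfsgLib.SmallOrdB
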