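import Cfsg.Agent.SmallOrdersB.Certs0
import Cfsg.Agent.SmallOrdersB.Certs1
import Cfsg.Agent.SmallOrdersB.Certs2
import Cfsg.Agent.SmallOrders.BlockFilter

/-!
The orders from 3641 to 6232 left by the filters.
-/

set_option autoImplicit false
set_option linter.style.longLine false

namespace CfsgLib.SmallOrdB

open CfsgLib.SmallOrd

/-- The orders left by the certificates. -/
def keepsAll : List ℕ := [3648, 3696, 3744, 3780, 3840, 3960, 4032, 4080, 4160, 4200, 4212, 4320, 4400, 4480, 4500, 4536, 4620, 4680, 4725, 4732, 4760, 4800, 4900, 4928, 4960, 5040, 5104, 5148, 5200, 5236, 5292, 5376, 5400, 5460, 5472, 5600, 5616, 5760, 5852, 5880, 5940, 6000, 6048, 6072, 6160]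

/-- The orders left by both filters. -/
def hardAll : List ℕ := [3780, 3840, 4032, 4080, 4160, 4200, 4212, 4320, 4500, 4536, 4620, 4800, 4900, 4960, 5040, 5148, 5292, 5376, 5400, 5460, 5616, 5760, 5880, 6000, 6048, 6072]

theorem mem_keepsAll {G : Type*} [Group G] [Finite G] [IsSimpleGroup G] (hG : ¬ IsMulCommutative G)
    (h1 : 3640 < Nat.card G) (h2 : Nat.card G ≤ 6232) : Nat.card G ∈ keepsAll := by
  by_cases c0 : Nat.card G ≤ 3740
  · exact (show keeps0 ⊆ keepsAll by decide +kernel) (mem_of_checks hG check0 keep0 (by omega) (by rw [show certs0.length = 100 from rfl]; omega))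
  by_cases c1 : Nat.card G ≤ 3840
  · exact (show keeps1 ⊆ keepsAll by decide +kernel) (mem_of_checks hG check1 keep1 (by omega) (by rw [show certs1.length = 100 from rfl]; omega))
  by_cases c2 : Nat.card G ≤ 3940
  · exact (show keeps2 ⊆ keepsAll by decide +kernel) (mem_of_checks hG check2 keep2 (by omega) (by rw [show certs2.length = 100 from rfl]; omega))
  by_cases c3 : Nat.card G ≤ 4040
  · exact (show keeps3 ⊆ keepsAll by decide +kernel) (mem_of_checks hG check3 keep3 (by omega) (by rw [show certs3.length = 100 from rfl]; omega))
  by_cases c4 : Nat.card G ≤ 4140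
  · exact (show keeps4 ⊆ keepsAll by decide +kernel) (mem_of_checks hG check4 keep4 (by omega) (by rw [show certs4.length = 100 from rfl]; omega))
  by_cases c5 : Nat.card G ≤ 4240
  · exact (show keeps5 ⊆ keepsAll by decide +kernel) (mem_of_checks hG check5 keep5 (by omega) (by rw [show certs5.length = 100 from rfl]; omega))
  by_cases c6 : Nat.card G ≤ 4340
  · exact (show keeps6 ⊆ keepsAll by decide +kernel) (mem_of_checks hG check6 keep6 (by omega) (by rw [show certs6.length = 100 from rfl]; omega))
  by_cases c7 : Nat.card G ≤ 4440
  · exact (show keeps7 ⊆ keepsAll by decide +kernel) (mem_of_checks hG check7 keep7 (by omega) (by rw [show certs7.length = 100 from rfl]; omega))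
  by_cases c8 : Nat.card G ≤ 4540
  · exact (show keeps8 ⊆ keepsAll by decide +kernel) (mem_of_checks hG check8 keep8 (by omega) (by rw [show certs8.length = 100 from rfl]; omega))
  by_cases c9 : Nat.card G ≤ 4640
  · exact (show keeps9 ⊆ keepsAll by decide +kernel) (mem_of_checks hG check9 keep9 (by omega) (by rw [show certs9.length = 100 from rfl]; omega))
  by_cases c10 : Nat.card G ≤ 4740
  · exact (show keeps10 ⊆ keepsAll by decide +kernel) (mem_of_checks hG check10 keep10 (by omega) (by rw [show certs10.length = 100 from rfl]; omega))
  by_cases c11 : Nat.card G ≤ 4840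
  · exact (show keeps11 ⊆ keepsAll by decide +kernel) (mem_of_checks hG check11 keep11 (by omega) (by rw [show certs11.length = 100 from rfl]; omega))
  by_cases c12 : Nat.card G ≤ 4940
  · exact (show keeps12 ⊆ keepsAll by decide +kernel) (mem_of_checks hG check12 keep12 (by omega) (by rw [show certs12.length = 100 from rfl]; omega))
  by_cases c13 : Nat.card G ≤ 5040
  · exact (show keeps13 ⊆ keepsAll by decide +kernel) (mem_of_checks hG check13 keep13 (by omega) (by rw [show certs13.length = 100 from rfl]; omega))
  by_cases c14 : Nat.card G ≤ 5140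
  · exact (show keeps14 ⊆ keepsAll by decide +kernel) (mem_of_checks hG check14 keep14 (by omega) (by rw [show certs14.length = 100 from rfl]; omega))
  by_cases c15 : Nat.card G ≤ 5240
  · exact (show keeps15 ⊆ keepsAll by decide +kernel) (mem_of_checks hG check15 keep15 (by omega) (by rw [show certs15.length = 100 from rfl]; omega))
  by_cases c16 : Nat.card G ≤ 5340
  · exact (show keeps16 ⊆ keepsAll by decide +kernel) (mem_of_checks hG check16 keep16 (by omega) (by rw [show certs16.length = 100 from rfl]; omega))
  by_cases c17 : Nat.card G ≤ 5440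
  · exact (show keeps17 ⊆ keepsAll by decide +kernel) (mem_of_checks hG check17 keep17 (by omega) (by rw [show certs17.length = 100 from rfl]; omega))
  by_cases c18 : Nat.card G ≤ 5540
  · exact (show keeps18 ⊆ keepsAll by decide +kernel) (mem_of_checks hG check18 keep18 (by omega) (by rw [show certs18.length = 100 from rfl]; omega))
  by_cases c19 : Nat.card G ≤ 5640
  · exact (show keeps19 ⊆ keepsAll by decide +kernel) (mem_of_checks hG check19 keep19 (by omega) (by rw [show certs19.length = 100 from rfl]; omega))
  by_cases c20 : Nat.card G ≤ 5740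
  · exact (show keeps20 ⊆ keepsAll by decide +kernel) (mem_of_checks hG check20 keep20 (by omega) (by rw [show certs20.length = 100 from rfl]; omega))
  by_cases c21 : Nat.card G ≤ 5840
  · exact (show keeps21 ⊆ keepsAll by decide +kernel) (mem_of_checks hG check21 keep21 (by omega) (by rw [show certs21.length = 100 from rfl]; omega))
  by_cases c22 : Nat.card G ≤ 5940
  · exact (show keeps22 ⊆ keepsAll by decide +kernel) (mem_of_checks hG check22 keep22 (by omega) (by rw [show certs22.length = 100 from rfl]; omega))
  by_cases c23 : Nat.card G ≤ 6040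
  · exact (show keeps23 ⊆ keepsAll by decide +kernel) (mem_of_checks hG check23 keep23 (by omega) (by rw [show certs23.length = 100 from rfl]; omega))
  by_cases c24 : Nat.card G ≤ 6140
  · exact (show keeps24 ⊆ keepsAll by decide +kernel) (mem_of_checks hG check24 keep24 (by omega) (by rw [show certs24.length = 100 from rfl]; omega))
  exact (show keeps25 ⊆ keepsAll by decide +kernel) (mem_of_checks hG check25 keep25 (by omega) (by rw [show certs25.length = 92 from rfl]; omega))

theorem mem_hardAll {G : Type*} [Group G] [Finite G] [IsSimpleGroup G] (hG : ¬ IsMulCommutative G)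
    (h1 : 3640 < Nat.card G) (h2 : Nat.card G ≤ 6232) : Nat.card G ∈ hardAll := by
  have h := mem_keepsAll hG h1 h2
  by_contra hn
  simp only [keepsAll, List.mem_cons, List.not_mem_nil, or_false] at h
  simp only [hardAll, List.mem_cons, List.not_mem_nil, or_false, not_or] at hn
  rcases h with e | e | e | e | e | e | e | e | e | e | e | e | e | e | e | e | e | e | e | e | e | e | e | e | e | e | e | e | e | e | e | e | e | e | e | e | e | e | e | e | e | e | e | e | e
  · exact blockOK_false (G := G) (p := 19) (m := 192) (b := 60) (by rw [e]; decide +kernel)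
  · exact blockOK_false (G := G) (p := 11) (m := 336) (b := 60) (by rw [e]; decide +kernel)
  · exact blockOK_false (G := G) (p := 13) (m := 288) (b := 61) (by rw [e]; decide +kernel)
  · omega
  · omega
  · exact blockOK_false (G := G) (p := 11) (m := 360) (b := 62) (by rw [e]; decide +kernel)
  · omega
  · omega
  · omega
  · omega
  · omega
  · omega
  · exact blockOK_false (G := G) (p := 11) (m := 400) (b := 66) (by rw [e]; decide +kernel)
  · exact blockOK_false (G := G) (p := 7) (m := 640) (b := 66) (by rw [e]; decide +kernel)
  · omega
  · omega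
  · omega
  · exact blockOK_false (G := G) (p := 13) (m := 360) (b := 68) (by rw [e]; decide +kernel)
  · exact blockOK_false (G := G) (p := 7) (m := 675) (b := 68) (by rw [e]; decide +kernel)
  · exact blockOK_false (G := G) (p := 7) (m := 676) (b := 68) (by rw [e]; decide +kernel)
  · exact blockOK_false (G := G) (p := 7) (m := 680) (b := 68) (by rw [e]; decide +kernel)
  · omega
  · omega
  · exact blockOK_false (G := G) (p := 11) (m := 448) (b := 70) (by rw [e]; decide +kernel)
  · omega
  · omega
  · exact blockOK_false (G := G) (p := 29) (m := 176) (b := 71) (by rw [e]; decide +kernel)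
  · omega
  · exact blockOK_false (G := G) (p := 13) (m := 400) (b := 72) (by rw [e]; decide +kernel)
  · exact blockOK_false (G := G) (p := 17) (m := 308) (b := 72) (by rw [e]; decide +kernel)
  · omega
  · omega
  · omega
  · omega
  · exact blockOK_false (G := G) (p := 19) (m := 288) (b := 73) (by rw [e]; decide +kernel)
  · exact blockOK_false (G := G) (p := 7) (m := 800) (b := 74) (by rw [e]; decide +kernel)
  · omega
  · omega
  · exact blockOK_false (G := G) (p := 19) (m := 308) (b := 76) (by rw [e]; decide +kernel)
  · omega
  · exact blockOK_false (G := G) (p := 11) (m := 540) (b := 77) (by rw [e]; decide +kernel)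
  · omega
  · omega
  · omega
  · exact blockOK_false (G := G) (p := 7) (m := 880) (b := 78) (by rw [e]; decide +kernel)

end CfsgLib.SmallOrdB
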