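import Cfsg.Agent.SmallOrdersB.Tools

/-!
There is no simple group of order 5400: the Sylow 5-subgroups meeting a given one are too few or too many.
-/

set_option autoImplicit false
set_option linter.style.haveILetI false
set_option linter.unusedSectionVars false

namespace CfsgLib.SmallOrdB

open CfsgLib.SmallOrd

universe u

variable {G : Type u} [Group G] [Finite G] [IsSimpleGroup G]

theorem meet_smul_iff {p : ℕ} (P : Sylow p G) {g : G} (hg : g ∈ Subgroup.normalizer ((P : Subgroup G) : Set G))
    (Q : Sylow p G) : (P : Subgroup G) ⊓ (g • Q : Sylow p G) = ⊥ ↔ (P : Subgroup G) ⊓ Q = ⊥ := by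
  have key : ∀ u : G, u ∈ ((g • Q : Sylow p G) : Subgroup G) ↔ g⁻¹ * u * g ∈ (Q : Subgroup G) := fun u => by
    rw [Sylow.coe_subgroup_smul, Subgroup.mem_pointwise_smul_iff_inv_smul_mem, MulAut.inv_def, MulAut.smul_def,
      MulAut.conj_symm_apply]
  simp only [Subgroup.eq_bot_iff_forall, Subgroup.mem_inf, and_imp]
  constructor
  · intro h u hu hu'
    have h1 : g * u * g⁻¹ ∈ (P : Subgroup G) := (Subgroup.mem_normalizer_iff.1 hg u).1 hu
    have := h _ h1 ((key _).2 (by simpa [mul_assoc] using hu'))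
    exact conj_eq_one_iff.1 this
  · intro h u hu hu'
    have h1 : g⁻¹ * u * g⁻¹⁻¹ ∈ (P : Subgroup G) := (Subgroup.mem_normalizer_iff.1 (inv_mem hg) u).1 hu
    have := h _ h1 (by rw [inv_inv]; exact (key u).1 hu')
    exact conj_eq_one_iff.1 this

/-- The Sylow subgroups meeting `P` trivially, as a set invariant under `N(P)`. -/
def apartSet {p : ℕ} (P : Sylow p G) :
    SubMulAction (Subgroup.normalizer ((P : Subgroup G) : Set G)) (Sylow p G) where
  carrier := {Q | (P : Subgroup G) ⊓ Q = ⊥}
  smul_mem' g _ hQ := (meet_smul_iff P g.2 _).2 hQ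

/-- The Sylow subgroups meeting `P` nontrivially. -/
def meetSet {p : ℕ} (P : Sylow p G) :
    SubMulAction (Subgroup.normalizer ((P : Subgroup G) : Set G)) (Sylow p G) where
  carrier := {Q | (P : Subgroup G) ⊓ Q ≠ ⊥}
  smul_mem' g _ hQ := fun h => hQ ((meet_smul_iff P g.2 _).1 h)

theorem card_dvd_apart {p : ℕ} [Fact p.Prime] (P : Sylow p G) :
    Nat.card (P : Subgroup G) ∣ Nat.card (apartSet P) := by
  classical
  set N := Subgroup.normalizer ((P : Subgroup G) : Set G)
  set P' := (P : Subgroup G).subgroupOf N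
  have hP' : Nat.card P' = Nat.card (P : Subgroup G) :=
    Nat.card_congr (Subgroup.subgroupOfEquivOfLe Subgroup.le_normalizer).toEquiv
  haveI := Fintype.ofFinite (MulAction.orbitRel.Quotient P' (apartSet P))
  rw [Nat.card_congr (MulAction.selfEquivSigmaOrbits P' (apartSet P)), Nat.card_sigma]
  refine Finset.dvd_sum fun ω _ => ?_
  rw [Nat.card_congr (MulAction.orbitEquivQuotientStabilizer P' ω.out)]
  have hbot : MulAction.stabilizer P' ω.out = ⊥ := by
    rw [Subgroup.eq_bot_iff_forall]
    intro x hx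
    rw [MulAction.mem_stabilizer_iff] at hx
    have hx' : ((x : N) : G) • ((ω.out : apartSet P) : Sylow p G) = (ω.out : apartSet P) :=
      congrArg Subtype.val hx
    rw [Sylow.smul_eq_iff_mem_normalizer] at hx'
    have h1 : ((x : N) : G) ∈ (P : Subgroup G) ⊓ ((ω.out : apartSet P) : Sylow p G) := by
      rw [← IsPGroup.inf_normalizer_sylow P.2]
      exact ⟨x.2, hx'⟩
    have h2 : (P : Subgroup G) ⊓ ((ω.out : apartSet P) : Sylow p G) = ⊥ := (ω.out : apartSet P).2
    rw [h2, Subgroup.mem_bot] at h1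
    exact Subtype.ext (Subtype.ext h1)
  rw [hbot, ← Subgroup.index_eq_card, Subgroup.index_bot, hP']

theorem meet_mod_three {p : ℕ} [Fact p.Prime] (P : Sylow p G) (hP : (P : Subgroup G) ≠ ⊥) {s : G}
    (hs : s ∈ Subgroup.normalizer ((P : Subgroup G) : Set G)) (hso : orderOf s = 3)
    (hfree : ∀ Q : Sylow p G, (P : Subgroup G) ⊓ Q ≠ ⊥ → s • Q = Q → Q = P) :
    Nat.card (meetSet P) % 3 = 1 := by
  haveI : Fact (Nat.Prime 3) := ⟨Nat.prime_three⟩
  set N := Subgroup.normalizer ((P : Subgroup G) : Set G)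
  set S := Subgroup.zpowers (⟨s, hs⟩ : N)
  have hS : IsPGroup 3 S := IsPGroup.of_card (n := 1) (by rw [Nat.card_zpowers, Subgroup.orderOf_mk, hso, pow_one])
  have hmod := hS.card_modEq_card_fixedPoints (meetSet P)
  have hfix : Nat.card (MulAction.fixedPoints S (meetSet P)) = 1 := by
    rw [Nat.card_eq_one_iff_unique]
    constructor
    · constructor
      rintro ⟨⟨Q, hQ⟩, hf⟩ ⟨⟨R, hR⟩, hf'⟩
      have e1 : s • Q = Q := congrArg Subtype.val (hf ⟨⟨s, hs⟩, Subgroup.mem_zpowers _⟩)
      have e2 : s • R = R := congrArg Subtype.val (hf' ⟨⟨s, hs⟩, Subgroup.mem_zpowers _⟩)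
      obtain rfl := hfree Q hQ e1
      obtain rfl := hfree R hR e2
      rfl
    · refine ⟨⟨⟨P, by show (P : Subgroup G) ⊓ P ≠ ⊥; rwa [inf_idem]⟩, fun g => ?_⟩⟩
      exact Subtype.ext (Sylow.smul_eq_iff_mem_normalizer.2 (g : N).2)
  rw [hfix] at hmod
  exact hmod

theorem card_apart_add {p : ℕ} (P : Sylow p G) :
    Nat.card (apartSet P) + Nat.card (meetSet P) = Nat.card (Sylow p G) := by
  classical
  rw [← Nat.card_congr (Equiv.sumCompl fun Q : Sylow p G => (P : Subgroup G) ⊓ Q = ⊥), Nat.card_sum]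
  rfl

theorem ne5400 (hG : ¬ IsMulCommutative G) : Nat.card G ≠ 5400 := by
  intro h
  haveI : Fact (Nat.Prime 5) := ⟨by norm_num⟩
  haveI : Fact (Nat.Prime 3) := ⟨Nat.prime_three⟩
  haveI : Fact (Nat.Prime 2) := ⟨Nat.prime_two⟩
  obtain ⟨P⟩ : Nonempty (Sylow 5 G) := inferInstance
  have hP : Nat.card (P : Subgroup G) = 5 ^ 2 := sylow_card (m := 216) (by rw [h]; norm_num) (by norm_num) P
  haveI hPc : IsMulCommutative (P : Subgroup G) := IsPGroup.isMulCommutative_of_card_eq_prime_sq hP
  have h0 : (P : Subgroup G) ≠ ⊥ := fun e => by rw [e, Subgroup.card_bot] at hP; norm_num at hP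
  have ht : (P : Subgroup G) ≠ ⊤ := fun e => by rw [e, Subgroup.card_top, h] at hP; norm_num at hP
  obtain ⟨-, -, -, hidx, hmul⟩ := sylow_data P h0 ht
  have hn := okSyl_card hG (p := 5) (a := 2) (m := 216) (by rw [h]; norm_num) (by norm_num) (by norm_num) P
  rw [h, show (List.range (216 + 1)).filter (okSyl 5400 5 2 216) = [36, 216] by decide +kernel] at hn
  simp only [List.mem_cons, List.not_mem_nil, or_false] at hn
  have hPN : (P : Subgroup G) ≤ Subgroup.normalizer ((P : Subgroup G) : Set G) := Subgroup.le_normalizer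
  rcases hn with hn | hn
  swap
  · refine not_normalizer_le_centralizer P h0 ht ?_
    have hN : Subgroup.normalizer ((P : Subgroup G) : Set G) = (P : Subgroup G) :=
      (Subgroup.eq_of_le_of_card_ge hPN (by rw [hn, h] at hmul; rw [hP]; omega)).symm
    rw [hN]
    exact (P : Subgroup G).le_centralizer
  rw [hn, h] at hmul
  obtain ⟨⟨s, hs⟩, hso⟩ := exists_prime_orderOf_dvd_card' (G := Subgroup.normalizer ((P : Subgroup G) : Set G)) 3
    (show 3 ∣ Nat.card (Subgroup.normalizer ((P : Subgroup G) : Set G)) from ⟨50, by omega⟩)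
  rw [Subgroup.orderOf_mk] at hso
  have hs1 : s ≠ 1 := fun e => by rw [e, orderOf_one] at hso; norm_num at hso
  have hs3 : s * s * s = 1 := by
    rw [← pow_three', ← hso, pow_orderOf_eq_one]
  -- an element fixed by `s` forces `s` to centralise the whole Sylow subgroup
  have hcent : ∀ u ∈ (P : Subgroup G), u ≠ 1 → s * u = u * s →
      s ∈ Subgroup.centralizer ((P : Subgroup G) : Set G) := by
    intro u hu hu1 hsu
    have hcomm : ∀ a ∈ (P : Subgroup G), ∀ b ∈ (P : Subgroup G), a * b = b * a := fun a ha b hb =>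
      congrArg Subtype.val (hPc.is_comm.comm (⟨a, ha⟩ : (P : Subgroup G)) ⟨b, hb⟩)
    have hconj : ∀ v ∈ (P : Subgroup G), s * v * s⁻¹ ∈ (P : Subgroup G) := fun v hv =>
      (Subgroup.mem_normalizer_iff.1 hs v).1 hv
    let d : (P : Subgroup G) →* G :=
      { toFun := fun v => s * (v : G) * s⁻¹ * (v : G)⁻¹
        map_one' := by simp
        map_mul' := fun v w => by
          have e := hcomm (s * (w : G) * s⁻¹ * (w : G)⁻¹)
            (mul_mem (hconj _ w.2) (inv_mem w.2)) (v : G)⁻¹ (inv_mem v.2)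
          show s * ((v : G) * w) * s⁻¹ * ((v : G) * w)⁻¹ =
            s * (v : G) * s⁻¹ * (v : G)⁻¹ * (s * (w : G) * s⁻¹ * (w : G)⁻¹)
          rw [show s * ((v : G) * w) * s⁻¹ * ((v : G) * w)⁻¹ =
            s * (v : G) * s⁻¹ * (s * (w : G) * s⁻¹ * (w : G)⁻¹ * (v : G)⁻¹) by group, e]
          group }
    have hker : (⟨u, hu⟩ : (P : Subgroup G)) ∈ d.ker := by
      rw [MonoidHom.mem_ker]
      show s * u * s⁻¹ * u⁻¹ = 1
      rw [hsu]; group
    have hr : Nat.card d.range ∣ 5 := by
      have h1 : Nat.card d.range * Nat.card d.ker = 5 ^ 2 := by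
        rw [← hP, ← Subgroup.index_ker, Subgroup.index_mul_card]
      obtain ⟨j, -, hj⟩ := (Nat.dvd_prime_pow (by norm_num : Nat.Prime 5)).1 (Dvd.intro _ h1 : Nat.card d.range ∣ 5 ^ 2)
      have h2 : 1 < Nat.card d.ker := by
        rw [Finite.one_lt_card_iff_nontrivial]
        exact ⟨⟨⟨_, hker⟩, 1, fun e => hu1 (congrArg (fun z : d.ker => ((z : (P : Subgroup G)) : G)) e)⟩⟩
      rcases Nat.lt_or_ge j 2 with hj2 | hj2
      · rw [hj]; exact (pow_dvd_pow 5 (by omega : j ≤ 1)).trans (by norm_num)
      · have : 5 ^ 2 * 2 ≤ Nat.card d.range * Nat.card d.ker :=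
          Nat.mul_le_mul (hj ▸ Nat.pow_le_pow_right (by norm_num) hj2) h2
        omega
    have hsR : ∀ w ∈ d.range, s * w * s⁻¹ ∈ d.range := by
      rintro _ ⟨v, rfl⟩
      refine ⟨⟨s * (v : G) * s⁻¹, hconj _ v.2⟩, ?_⟩
      show s * (s * (v : G) * s⁻¹) * s⁻¹ * (s * (v : G) * s⁻¹)⁻¹ = s * (s * (v : G) * s⁻¹ * (v : G)⁻¹) * s⁻¹
      group
    have hsN : s ∈ Subgroup.normalizer (d.range : Set G) := by
      rw [Subgroup.mem_normalizer_iff]
      refine fun w => ⟨hsR w, fun hw => ?_⟩
      have h2 := hsR _ (hsR _ hw)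
      rwa [show s * (s * (s * w * s⁻¹) * s⁻¹) * s⁻¹ = (s * s * s) * w * (s * s * s)⁻¹ by group, hs3, one_mul,
        inv_one, mul_one] at h2
    have hsC : ∀ w ∈ d.range, s * w = w * s := by
      rcases (Nat.dvd_prime (by norm_num : Nat.Prime 5)).1 hr with h1 | h1
      · intro w hw
        rw [Subgroup.eq_bot_of_card_eq _ h1, Subgroup.mem_bot] at hw
        rw [hw, mul_one, one_mul]
      · exact fun w hw => (Subgroup.mem_centralizer_iff.1
          (mem_centralizer_of_coprime h1 hsN (by rw [hso]; decide +kernel)) w hw).symm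
    rw [Subgroup.mem_centralizer_iff]
    intro v hv
    set w := s * v * s⁻¹ * v⁻¹ with hw
    have hwR : w ∈ d.range := ⟨⟨v, hv⟩, rfl⟩
    have e1 : s * v * s⁻¹ = w * v := by rw [hw]; group
    have e2 : s * w * s⁻¹ = w := by rw [hsC _ hwR, mul_assoc, mul_inv_cancel, mul_one]
    have hstep : ∀ x : G, s * (x * v) * s⁻¹ = (s * x * s⁻¹) * (s * v * s⁻¹) := fun x => by group
    have hw3 : w * w * w = 1 := by
      have e3 : s * (s * (s * v * s⁻¹) * s⁻¹) * s⁻¹ = w * w * w * v := by
        have e4 : s * (w * v) * s⁻¹ = w * w * v := by rw [hstep, e2, e1, ← mul_assoc]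
        rw [e1, e4, hstep, show s * (w * w) * s⁻¹ = (s * w * s⁻¹) * (s * w * s⁻¹) by group,
          e2, e1, ← mul_assoc]
      rw [show s * (s * (s * v * s⁻¹) * s⁻¹) * s⁻¹ = (s * s * s) * v * (s * s * s)⁻¹ by group, hs3, one_mul,
        inv_one, mul_one] at e3
      exact mul_right_cancel (b := v) (by rw [one_mul]; exact e3.symm)
    have h5 : orderOf w ∣ 5 := (Subgroup.orderOf_dvd_natCard _ hwR).trans hr
    have h3 : orderOf w ∣ 3 := orderOf_dvd_of_pow_eq_one (by rw [pow_three', hw3])
    have hw1 : w = 1 := orderOf_eq_one_iff.1 (Nat.eq_one_of_dvd_coprimes (by decide +kernel : Nat.Coprime 3 5) h3 h5)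
    rw [hw1, one_mul, mul_inv_eq_iff_eq_mul] at e1
    exact e1.symm
  by_cases hsP : s ∈ Subgroup.centralizer ((P : Subgroup G) : Set G)
  · obtain ⟨T, hT⟩ := (IsPGroup.of_card (p := 3) (n := 1) (G := Subgroup.zpowers s)
      (by rw [Nat.card_zpowers, hso, pow_one])).exists_le_sylow
    have hTc : Nat.card (T : Subgroup G) = 3 ^ 3 := sylow_card (m := 200) (by rw [h]; norm_num) (by norm_num) T
    set C := Subgroup.centralizer ({s} : Set G) with hCdef
    have hPC : (P : Subgroup G) ≤ C := fun g hg => by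
      rw [hCdef, Subgroup.mem_centralizer_singleton_iff]
      exact Subgroup.mem_centralizer_iff.1 hsP g hg
    have h9 : 9 ∣ Nat.card C := by
      have hTp : IsPGroup 3 (T : Subgroup G) := T.2
      haveI : Nontrivial (T : Subgroup G) := Finite.one_lt_card_iff_nontrivial.1 (by rw [hTc]; norm_num)
      set sT : (T : Subgroup G) := ⟨s, hT (Subgroup.mem_zpowers s)⟩
      set C' := Subgroup.centralizer ({sT} : Set (T : Subgroup G))
      have hle : C'.map (T : Subgroup G).subtype ≤ C := by
        rintro _ ⟨g, hg, rfl⟩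
        rw [hCdef, Subgroup.mem_centralizer_singleton_iff]
        exact congrArg Subtype.val (Subgroup.mem_centralizer_singleton_iff.1 hg)
      have hd := Subgroup.card_dvd_of_le hle
      rw [Subgroup.card_map_of_injective (Subgroup.subtype_injective _)] at hd
      refine dvd_trans ?_ hd
      obtain ⟨j, hj⟩ := (hTp.to_subgroup C').exists_card_eq
      rw [hj]
      refine (show (9 : ℕ) = 3 ^ 2 by norm_num) ▸ pow_dvd_pow 3 ?_
      by_contra hj2
      have hle3 : Nat.card C' ≤ 3 := by
        rw [hj]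
        exact (Nat.pow_le_pow_right (by norm_num) (show j ≤ 1 by omega)).trans (by norm_num)
      have hsz : Subgroup.zpowers sT ≤ C' :=
        Subgroup.zpowers_le.2 (Subgroup.mem_centralizer_singleton_iff.2 rfl)
      have heq : Subgroup.zpowers sT = C' := Subgroup.eq_of_le_of_card_ge hsz
        (by rw [Nat.card_zpowers, Subgroup.orderOf_mk, hso]; exact hle3)
      have hz : Subgroup.center (T : Subgroup G) ≤ Subgroup.zpowers sT := by
        rw [heq]
        exact fun z hz => Subgroup.mem_centralizer_singleton_iff.2 ((Subgroup.mem_center_iff.1 hz sT).symm)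
      haveI := hTp.center_nontrivial
      have hc3 : Nat.card (Subgroup.center (T : Subgroup G)) = 3 := by
        have h1 := Subgroup.card_dvd_of_le hz
        rw [Nat.card_zpowers, Subgroup.orderOf_mk, hso] at h1
        exact ((Nat.dvd_prime Nat.prime_three).1 h1).resolve_left Finite.one_lt_card.ne'
      have hze : Subgroup.center (T : Subgroup G) = Subgroup.zpowers sT :=
        Subgroup.eq_of_le_of_card_ge hz (by rw [Nat.card_zpowers, Subgroup.orderOf_mk, hso, hc3])
      have hall : C' = ⊤ := (Subgroup.eq_top_iff' C').2 fun g => Subgroup.mem_centralizer_singleton_iff.2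
        (Subgroup.mem_center_iff.1 (hze ▸ Subgroup.mem_zpowers sT : sT ∈ Subgroup.center (T : Subgroup G)) g)
      rw [hall, Subgroup.card_top, hTc] at hle3
      norm_num at hle3
    obtain ⟨c, hc⟩ : 225 ∣ Nat.card C := Nat.Coprime.mul_dvd_of_dvd_of_dvd (by norm_num : Nat.Coprime 25 9)
      (by rw [show (25 : ℕ) = 5 ^ 2 by norm_num, ← hP]; exact Subgroup.card_dvd_of_le hPC) h9
    have hci := C.card_mul_index
    rw [hc, h, mul_assoc] at hci
    have hd : C.index ∈ Nat.divisors 24 := Nat.mem_divisors.2 ⟨Dvd.intro_left c (by omega), by norm_num⟩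
    have hi1 : C.index ≠ 1 := fun e => centralizer_ne_top hG hs1 (Subgroup.index_eq_one.1 e)
    have hf := two_mul_card_dvd_factorial hG C (centralizer_ne_top hG hs1)
    rw [h] at hf
    rw [show Nat.divisors 24 = {1, 2, 3, 4, 6, 8, 12, 24} by decide +kernel] at hd
    simp only [Finset.mem_insert, Finset.mem_singleton] at hd
    -- a subgroup of order `225` or `450` normalises its Sylow five subgroup
    have key : ∀ K : Subgroup G, (P : Subgroup G) ≤ K → Nat.card K = 225 →
        K ≤ Subgroup.normalizer ((P : Subgroup G) : Set G) := by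
      intro K hPK hK
      refine le_normalizer_of_count P hPK hK hPK Subgroup.le_normalizer hP fun d hd hm => ?_
      have hd9 : d ∣ 9 := Nat.dvd_of_mul_dvd_mul_right (by norm_num : 0 < 25) (by norm_num at hd ⊢; exact hd)
      exact (show ∀ d < 10, d ∣ 9 → d % 5 = 1 → d = 1 by decide +kernel) d
        (Nat.lt_succ_of_le (Nat.le_of_dvd (by norm_num) hd9)) hd9 hm
    have h150 : ∀ K : Subgroup G, K ≤ Subgroup.normalizer ((P : Subgroup G) : Set G) → Nat.card K ∣ 150 :=
      fun K hK => by
        have := Subgroup.card_dvd_of_le hK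
        rwa [show Nat.card (Subgroup.normalizer ((P : Subgroup G) : Set G)) = 150 by omega] at this
    rcases hd with e | e | e | e | e | e | e | e
    · exact hi1 e
    iterate 5 (rw [e] at hf; norm_num [Nat.factorial] at hf)
    · -- index twelve: a subgroup of index two
      have hc2 : Nat.card C = 450 := by rw [e] at hci; omega
      obtain ⟨R⟩ : Nonempty (Sylow 2 C) := inferInstance
      have hR : Nat.card (R : Subgroup C) = 2 := by
        rw [R.card_eq_multiplicity, hc2, show (450 : ℕ).factorization 2 = 1 from ?_, pow_one]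
        rw [show (450 : ℕ) = 2 * 225 by norm_num, Nat.factorization_mul (by norm_num) (by norm_num),
          Finsupp.add_apply, Nat.prime_two.factorization_self,
          Nat.factorization_eq_zero_of_not_dvd (by norm_num : ¬ 2 ∣ 225)]
      haveI := isCyclic_of_prime_card (α := (R : Subgroup C)) hR
      have hmin : (Nat.card C).minFac = 2 := by rw [hc2]; norm_num
      have hcompl := IsCyclic.isComplement' hmin (P := R) inferInstance
      set K₀ := (MonoidHom.transferSylow R ((inferInstance : IsCyclic (R : Subgroup C)).normalizer_le_centralizer hmin)).ker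
      have hK₀ : Nat.card K₀ = 225 := by
        have := hcompl.card_mul_card
        rw [hR, hc2] at this
        omega
      have hPK : (P : Subgroup G) ≤ K₀.map C.subtype := by
        intro g hg
        refine ⟨⟨g, hPC hg⟩, ?_, rfl⟩
        rw [SetLike.mem_coe, MonoidHom.mem_ker]
        refine orderOf_eq_one_iff.1 (Nat.eq_one_of_dvd_coprimes (by decide +kernel : Nat.Coprime 25 2) ?_ ?_)
        · refine (orderOf_map_dvd _ _).trans ?_
          rw [Subgroup.orderOf_mk, show (25 : ℕ) = 5 ^ 2 by norm_num, ← hP]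
          exact Subgroup.orderOf_dvd_natCard _ hg
        · exact (orderOf_dvd_natCard _).trans hR.dvd
      have hK := key _ hPK (by rw [Subgroup.card_map_of_injective (Subgroup.subtype_injective _), hK₀])
      have hR' := h150 _ hK
      rw [Subgroup.card_map_of_injective (Subgroup.subtype_injective _), hK₀] at hR'
      norm_num at hR'
    · have hc1 : Nat.card C = 225 := by rw [e] at hci; omega
      have := h150 _ (key C hPC hc1)
      rw [hc1] at this
      norm_num at this
  -- no element of `P` is fixed by `s`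
  have hfree : ∀ Q : Sylow 5 G, (P : Subgroup G) ⊓ Q ≠ ⊥ → s • Q = Q → Q = P := by
    intro Q hQ hfix
    by_contra hne
    have hI : Nat.card ((P : Subgroup G) ⊓ Q : Subgroup G) = 5 := by
      have h1 := Subgroup.card_dvd_of_le (inf_le_left : (P : Subgroup G) ⊓ Q ≤ P)
      rw [hP] at h1
      obtain ⟨j, hj2, hj⟩ := (Nat.dvd_prime_pow (by norm_num : Nat.Prime 5)).1 h1
      rcases Nat.lt_or_ge j 2 with hlt | hge
      · rcases Nat.eq_zero_or_pos j with rfl | hpos
        · exact absurd (Subgroup.eq_bot_of_card_eq _ (by rw [hj, pow_zero])) hQ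
        · rw [hj, show j = 1 by omega, pow_one]
      · refine absurd ?_ hne
        have heq : (P : Subgroup G) ⊓ Q = P :=
          Subgroup.eq_of_le_of_card_ge inf_le_left (by rw [hj, hP, show j = 2 by omega])
        exact Sylow.ext (P.3 Q.2 (inf_eq_left.1 heq))
    have hsI : s ∈ Subgroup.normalizer (((P : Subgroup G) ⊓ Q : Subgroup G) : Set G) := by
      have hq := Sylow.smul_eq_iff_mem_normalizer.1 hfix
      rw [Subgroup.mem_normalizer_iff]
      intro w
      rw [Subgroup.mem_inf, Subgroup.mem_inf]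
      exact and_congr (Subgroup.mem_normalizer_iff.1 hs w) (Subgroup.mem_normalizer_iff.1 hq w)
    have hsC := mem_centralizer_of_coprime hI hsI (by rw [hso]; decide +kernel)
    obtain ⟨u, hu, hu1⟩ := (Subgroup.bot_or_exists_ne_one ((P : Subgroup G) ⊓ Q)).resolve_left hQ
    exact hsP (hcent u (Subgroup.mem_inf.1 hu).1 hu1 (Subgroup.mem_centralizer_iff.1 hsC u hu).symm)
  have hM := meet_mod_three P h0 hs hso hfree
  obtain ⟨k, hk⟩ := card_dvd_apart P
  have hA := card_apart_add P
  rw [hk, hP, hn] at hA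
  norm_num at hA
  rcases Nat.lt_or_ge k 2 with hk2 | hk2
  · interval_cases k <;> omega
  · omega

end CfsgLib.SmallOrdB
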