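import Cfsg.Agent.SmallOrdersB.Tools
import Cfsg.Agent.S1001

/-!
The orders 3780, 4200, 4536, 4620, 5148, 5460, 5880 and 6000 are not those of simple groups.
-/

set_option autoImplicit false
set_option linter.style.haveILetI false
set_option linter.unusedSectionVars false

namespace CfsgLib.SmallOrdB

open CfsgLib.SmallOrd

universe u

variable {G : Type u} [Group G] [Finite G] [IsSimpleGroup G]

theorem exists_generator_prime {p : ℕ} [Fact p.Prime] {P : Subgroup G} (hP : Nat.card P = p) :
    ∃ x : G, orderOf x = p ∧ x ∈ P ∧ Subgroup.zpowers x = P := by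
  obtain ⟨⟨x, hx⟩, hxo⟩ := exists_prime_orderOf_dvd_card' (G := P) p (hP ▸ dvd_rfl)
  rw [Subgroup.orderOf_mk] at hxo
  exact ⟨x, hxo, hx, Subgroup.eq_of_le_of_card_ge (Subgroup.zpowers_le.2 hx) (by rw [Nat.card_zpowers, hxo, hP])⟩

/-- The normalisers allowed by the certificates. -/
theorem card_normalizer_mem (hG : ¬ IsMulCommutative G) {p m : ℕ} [Fact p.Prime] (hp2 : p ≠ 2)
    (h : Nat.card G = p * m) (hm : ¬ p ∣ m) (P : Sylow p G) :
    Nat.card (Subgroup.normalizer ((P : Subgroup G) : Set G)) ∈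
      ((List.range (m + 1)).filter (okSyl (Nat.card G) p 1 m)).map (Nat.card G / ·) := by
  obtain ⟨-, L, hL, -⟩ := local_at hG hp2 h hm P
  exact List.mem_map.2 ⟨L.n, hL, by rw [← L.hN, LocalData.N_eq L]⟩

theorem ne4536 (hG : ¬ IsMulCommutative G) : Nat.card G ≠ 4536 := by
  intro h
  haveI : Fact (Nat.Prime 7) := ⟨by norm_num⟩
  obtain ⟨P⟩ : Nonempty (Sylow 7 G) := inferInstance
  obtain ⟨hP, L, hL, -⟩ := local_at hG (m := 648) (by norm_num) (by rw [h]) (by norm_num) P
  obtain ⟨x, hxo, -, hxz⟩ := exists_generator_prime hP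
  have hC : Subgroup.centralizer ((P : Subgroup G) : Set G) = P := by
    rw [← hxz, Subgroup.zpowers_eq_closure, Subgroup.centralizer_closure, ← Subgroup.zpowers_eq_closure]
    exact Cfsg.Agent.S1001.result 7 4 3 (by norm_num) (by rw [h]; norm_num) x hxo
  rw [h, show (List.range (648 + 1)).filter (okSyl 4536 7 1 648) = [36, 162] by decide +kernel] at hL
  have h1 := L.e_mul
  rw [L.hC, hC, hP] at h1
  have h2 := Nat.le_of_dvd (by norm_num) L.e_dvd
  have h3 := L.n_mul
  simp only [List.mem_cons, List.not_mem_nil, or_false] at hL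
  rcases hL with e | e <;> rw [e, h] at h3
  · omega
  · have h4 : L.e = 4 := by omega
    have h5 := L.e_dvd
    rw [h4] at h5
    norm_num at h5

/-- The possible values of `e` and the resulting centralisers. -/
theorem centralizer_mem {p : ℕ} [Fact p.Prime] {P : Subgroup G} (L : LocalData (G := G) p P) :
    (L.e, L.C) ∈ ((List.range p).filter fun e => decide (2 ≤ e ∧ (p - 1) % e = 0 ∧
      (Nat.card G / L.n) % e = 0 ∧ (Nat.card G / L.n / e) % p = 0)).map fun e => (e, Nat.card G / L.n / e) := by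
  have hp := (Fact.out : p.Prime).two_le
  have h0 : L.e ≠ 0 := fun e => by
    have := L.e_mul
    rw [e, zero_mul] at this
    exact (L.hN ▸ Nat.card_pos : 0 < L.N).ne this
  have h1 := Nat.le_of_dvd (by omega) L.e_dvd
  have hN := LocalData.N_eq L
  have hd : Nat.card G / L.n / L.e = L.C := by
    rw [← hN, ← L.e_mul, Nat.mul_div_cancel_left _ (Nat.pos_of_ne_zero h0)]
  refine List.mem_map.2 ⟨L.e, List.mem_filter.2 ⟨List.mem_range.2 (by omega), ?_⟩, by rw [hd]⟩
  simp only [decide_eq_true_eq]
  refine ⟨?_, Nat.mod_eq_zero_of_dvd L.e_dvd, ?_, ?_⟩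
  · have := L.e_ne; omega
  · rw [← hN, ← L.e_mul]; exact Nat.mul_mod_right _ _
  · rw [hd]; exact Nat.mod_eq_zero_of_dvd L.p_dvd

theorem ne4200 (hG : ¬ IsMulCommutative G) : Nat.card G ≠ 4200 := by
  intro h
  haveI : Fact (Nat.Prime 7) := ⟨by norm_num⟩
  obtain ⟨P⟩ : Nonempty (Sylow 7 G) := inferInstance
  obtain ⟨-, L, hL, ⟨B⟩⟩ := local_at hG (m := 600) (by norm_num) (by rw [h]) (by norm_num) P
  rw [h] at hL
  have hall : (((List.range (600 + 1)).filter (okSyl 4200 7 1 600)).all fun d =>
      (((List.range 7).filter fun e => decide (2 ≤ e ∧ (7 - 1) % e = 0 ∧ (4200 / d) % e = 0 ∧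
        (4200 / d / e) % 7 = 0)).map fun e => (e, 4200 / d / e)).all fun ec => noBlock 4200 7 64 ec.1 ec.2) = true := by
    decide +kernel
  rw [List.all_eq_true] at hall
  have h1 := hall _ hL
  rw [List.all_eq_true] at h1
  refine noBlock_false (b := 64) (by norm_num) L B (by rw [h]; norm_num) ?_
  rw [h]
  have h2 := centralizer_mem L
  rw [h] at h2
  exact h1 _ h2

theorem ne5880 (hG : ¬ IsMulCommutative G) : Nat.card G ≠ 5880 := by
  intro h
  haveI : Fact (Nat.Prime 5) := ⟨by norm_num⟩
  haveI : Fact (Nat.Prime 3) := ⟨by norm_num⟩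
  obtain ⟨P⟩ : Nonempty (Sylow 5 G) := inferInstance
  obtain ⟨hP, L, hL, ⟨B⟩⟩ := local_at hG (m := 1176) (by norm_num) (by rw [h]) (by norm_num) P
  have h2 := centralizer_mem L
  rw [h] at h2
  rw [h, show (List.range (1176 + 1)).filter (okSyl 5880 5 1 1176) = [21, 196] by decide +kernel] at hL
  simp only [List.mem_cons, List.not_mem_nil, or_false] at hL
  rcases hL with e | e <;> rw [e] at h2
  · have hall : ((((List.range 5).filter fun e => decide (2 ≤ e ∧ (5 - 1) % e = 0 ∧ (5880 / 21) % e = 0 ∧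
        (5880 / 21 / e) % 5 = 0)).map fun e => (e, 5880 / 21 / e)).all fun ec => noBlock 5880 5 76 ec.1 ec.2) = true := by
      decide +kernel
    rw [List.all_eq_true] at hall
    exact noBlock_false (b := 76) (by norm_num) L B (by rw [h]; norm_num) (by rw [h]; exact hall _ h2)
  rw [show (((List.range 5).filter fun e => decide (2 ≤ e ∧ (5 - 1) % e = 0 ∧ (5880 / 196) % e = 0 ∧
        (5880 / 196 / e) % 5 = 0)).map fun e => (e, 5880 / 196 / e)) = [(2, 15)] by decide +kernel,
    List.mem_singleton, Prod.mk.injEq] at h2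
  obtain ⟨he, hC⟩ := h2
  have hn1 : B.n = 1 := by have := B.n_eq; omega
  let i : Fin B.n := ⟨0, by omega⟩
  have hs := B.sum
  rw [Finset.sum_eq_single i (fun j _ hj => absurd (Fin.ext (by have := j.2; simp only [i]; omega)) hj)
    (fun hh => absurd (Finset.mem_univ _) hh)] at hs
  have hd : (-1 - B.D i).natAbs ∣ 5880 := by
    rw [show -1 - B.D i = B.E by linarith, ← h]
    exact Int.natCast_dvd_natCast.1 (Int.natAbs_dvd.2 B.E_spec.2.1)
  have hsmall : (B.D i).natAbs < 10 := by
    have hall : ((cands 5880 5 76).all fun D => decide (D.natAbs < 10) || decide (¬ (-1 - D).natAbs ∣ 5880)) = true := by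
      decide +kernel
    have hm := B.D_mem (b := 76) (by rw [h]; norm_num) i
    rw [h] at hm
    rw [List.all_eq_true] at hall
    have := hall _ hm
    simp only [Bool.or_eq_true, decide_eq_true_eq] at this
    exact this.resolve_right fun hh => hh hd
  obtain ⟨χ, s, hχ, hs', hDχ, hval⟩ := B.D_char i
  obtain ⟨x, hxo, hxP, -⟩ := exists_generator_prime hP
  obtain ⟨⟨t, htC⟩, hto⟩ := exists_prime_orderOf_dvd_card' (G := Subgroup.centralizer ((P : Subgroup G) : Set G)) 3
    (by rw [← L.hC, hC]; norm_num)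
  rw [Subgroup.orderOf_mk] at hto
  have hxt : Commute x t := Subgroup.mem_centralizer_iff.1 htC x hxP
  refine false_of_lt_ten hG χ hχ ?_ hxo hto hxt (s := (s : ℂ)) fun j k hj => ?_
  · rcases hs' with rfl | rfl <;> rw [hDχ] at hsmall <;> simpa using hsmall
  · refine hval _ (pow_mem hxP _) ?_ _ (pow_mem htC _) ?_
    · rw [ne_eq, ← orderOf_dvd_iff_pow_eq_one, hxo]
      exact hj
    · intro hd5
      have := (Nat.prime_dvd_prime_iff_eq (by norm_num : Nat.Prime 5) Nat.prime_three).1
        (hto ▸ hd5.trans (orderOf_pow_dvd k))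
      omega

theorem ne3780 (hG : ¬ IsMulCommutative G) : Nat.card G ≠ 3780 := by
  intro h
  haveI : Fact (Nat.Prime 7) := ⟨by norm_num⟩
  haveI : Fact (Nat.Prime 5) := ⟨by norm_num⟩
  haveI : Fact (Nat.Prime 3) := ⟨by norm_num⟩
  obtain ⟨P⟩ : Nonempty (Sylow 7 G) := inferInstance
  obtain ⟨hP, L, hL, -⟩ := local_at hG (m := 540) (by norm_num) (by rw [h]) (by norm_num) P
  have h2 := centralizer_mem L
  rw [h] at h2
  rw [h, show (List.range (540 + 1)).filter (okSyl 3780 7 1 540) = [15, 36] by decide +kernel] at hL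
  simp only [List.mem_cons, List.not_mem_nil, or_false] at hL
  rcases hL with e | e <;> rw [e] at h2
  · have h3 : 3 ∣ L.C := by
      have hall : ((((List.range 7).filter fun e => decide (2 ≤ e ∧ (7 - 1) % e = 0 ∧ (3780 / 15) % e = 0 ∧
          (3780 / 15 / e) % 7 = 0)).map fun e => (e, 3780 / 15 / e)).all fun ec => decide (3 ∣ ec.2)) = true := by
        decide +kernel
      rw [List.all_eq_true] at hall
      exact of_decide_eq_true (hall _ h2)
    obtain ⟨x, hxo, hxP, hxz⟩ := exists_generator_prime hP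
    obtain ⟨⟨y, hyC⟩, hyo⟩ := exists_prime_orderOf_dvd_card' (G := Subgroup.centralizer ((P : Subgroup G) : Set G)) 3
      (L.hC ▸ h3)
    rw [Subgroup.orderOf_mk] at hyo
    have hxy : Commute x y := Subgroup.mem_centralizer_iff.1 hyC x hxP
    have hcard : Nat.card (Sylow 7 G) = 15 := (P.card_eq_index_normalizer.trans L.hn.symm).trans e
    obtain ⟨b, hb⟩ : ∃ b : Sylow 7 G, y • b ≠ b := by
      by_contra! hc
      have hk : y ∈ (MulAction.toPermHom G (Sylow 7 G)).ker := MonoidHom.mem_ker.2 (Equiv.ext fun a => hc a)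
      rcases (MulAction.toPermHom G (Sylow 7 G)).normal_ker.eq_bot_or_eq_top with e' | e'
      · have h1 : y = 1 := by rw [e'] at hk; exact Subgroup.mem_bot.1 hk
        rw [h1, orderOf_one] at hyo
        norm_num at hyo
      · have hsub : Subsingleton (Sylow 7 G) := ⟨fun A B => by
          obtain ⟨g, rfl⟩ := MulAction.exists_smul_eq G A B
          exact (congrArg (fun s : Equiv.Perm (Sylow 7 G) => s A)
            (MonoidHom.mem_ker.1 (e' ▸ Subgroup.mem_top g : g ∈ (MulAction.toPermHom G (Sylow 7 G)).ker))).symm⟩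
        rw [Nat.card_of_subsingleton P] at hcard
        norm_num at hcard
    have hxb := (fixed_or (α := Sylow 7 G) (by norm_num) Nat.prime_three (by norm_num) hxo hyo hxy
      (by rw [hcard]; norm_num) b).resolve_right hb
    rw [Sylow.smul_eq_iff_mem_normalizer] at hxb
    have hle : (P : Subgroup G) ≤ (b : Subgroup G) := by
      refine le_trans ?_ (inf_le_right : (P : Subgroup G) ⊓ b ≤ _)
      rw [← IsPGroup.inf_normalizer_sylow P.2]
      refine le_inf le_rfl ?_
      rw [← hxz]
      exact Subgroup.zpowers_le.2 hxb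
    obtain rfl : b = P := Sylow.ext (P.3 b.2 hle)
    exact hb (Sylow.smul_eq_iff_mem_normalizer.2 (Subgroup.centralizer_le_normalizer _ hyC))
  · rw [show (((List.range 7).filter fun e => decide (2 ≤ e ∧ (7 - 1) % e = 0 ∧ (3780 / 36) % e = 0 ∧
        (3780 / 36 / e) % 7 = 0)).map fun e => (e, 3780 / 36 / e)) = [(3, 35)] by decide +kernel,
      List.mem_singleton, Prod.mk.injEq] at h2
    obtain ⟨Q, -, hPQ⟩ := exists_sylow_le_centralizer (q := 5) (m := 756) (by rw [h]) (by norm_num)
      (H := (P : Subgroup G)) (by rw [← L.hC, h2.2]; norm_num)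
    have h7 : 7 ∣ Nat.card (Subgroup.normalizer ((Q : Subgroup G) : Set G)) :=
      hP ▸ Subgroup.card_dvd_of_le (hPQ.trans (Subgroup.centralizer_le_normalizer _))
    have h5 := card_normalizer_mem hG (m := 756) (by norm_num) (by rw [h]) (by norm_num) Q
    rw [h, show ((List.range (756 + 1)).filter (okSyl 3780 5 1 756)).map (3780 / ·) = [180, 30] by decide +kernel] at h5
    simp only [List.mem_cons, List.not_mem_nil, or_false] at h5
    rcases h5 with e5 | e5 <;> rw [e5] at h7 <;> norm_num at h7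

theorem ne4620 (hG : ¬ IsMulCommutative G) : Nat.card G ≠ 4620 := by
  intro h
  haveI : Fact (Nat.Prime 7) := ⟨by norm_num⟩
  haveI : Fact (Nat.Prime 5) := ⟨by norm_num⟩
  haveI : Fact (Nat.Prime 11) := ⟨by norm_num⟩
  haveI : Fact (Nat.Prime 2) := ⟨Nat.prime_two⟩
  obtain ⟨P⟩ : Nonempty (Sylow 7 G) := inferInstance
  obtain ⟨hP, L, hL, ⟨B⟩⟩ := local_at hG (m := 660) (by norm_num) (by rw [h]) (by norm_num) P
  have h2 := centralizer_mem L
  rw [h] at h2
  rw [h, show (List.range (660 + 1)).filter (okSyl 4620 7 1 660) = [15, 22, 330] by decide +kernel] at hL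
  simp only [List.mem_cons, List.not_mem_nil, or_false] at hL
  rcases hL with e | e | e <;> rw [e] at h2
  · have h11 : 11 ∣ L.C := by
      have hall : ((((List.range 7).filter fun e => decide (2 ≤ e ∧ (7 - 1) % e = 0 ∧ (4620 / 15) % e = 0 ∧
          (4620 / 15 / e) % 7 = 0)).map fun e => (e, 4620 / 15 / e)).all fun ec => decide (11 ∣ ec.2)) = true := by
        decide +kernel
      rw [List.all_eq_true] at hall
      exact of_decide_eq_true (hall _ h2)
    obtain ⟨Q, -, hPQ⟩ := exists_sylow_le_centralizer (q := 11) (m := 420) (by rw [h]) (by norm_num)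
      (H := (P : Subgroup G)) (by rw [← L.hC]; exact h11)
    have h7 : 7 ∣ Nat.card (Subgroup.normalizer ((Q : Subgroup G) : Set G)) :=
      hP ▸ Subgroup.card_dvd_of_le (hPQ.trans (Subgroup.centralizer_le_normalizer _))
    have h5 := card_normalizer_mem hG (m := 420) (by norm_num) (by rw [h]) (by norm_num) Q
    rw [h, show ((List.range (420 + 1)).filter (okSyl 4620 11 1 420)).map (4620 / ·) = [22] by decide +kernel,
      List.mem_singleton] at h5
    rw [h5] at h7
    norm_num at h7
  · have h5C : 5 ∣ L.C ∧ ∀ d < L.C + 1, d * 7 ∣ L.C → d % 5 = 1 → d = 1 := by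
      have hall : ((((List.range 7).filter fun e => decide (2 ≤ e ∧ (7 - 1) % e = 0 ∧ (4620 / 22) % e = 0 ∧
          (4620 / 22 / e) % 7 = 0)).map fun e => (e, 4620 / 22 / e)).all fun ec =>
            decide (5 ∣ ec.2 ∧ ∀ d < ec.2 + 1, d * 7 ∣ ec.2 → d % 5 = 1 → d = 1)) = true := by
        decide +kernel
      rw [List.all_eq_true] at hall
      exact of_decide_eq_true (hall _ h2)
    obtain ⟨Q, hQP, hPQ⟩ := exists_sylow_le_centralizer (q := 5) (m := 924) (by rw [h]) (by norm_num)
      (H := (P : Subgroup G)) (by rw [← L.hC]; exact h5C.1)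
    obtain ⟨hQ, M, hM, -⟩ := local_at hG (m := 924) (by norm_num) (by rw [h]) (by norm_num) Q
    have h7 : 7 ∣ M.N := M.hN ▸ hP ▸ Subgroup.card_dvd_of_le (hPQ.trans (Subgroup.centralizer_le_normalizer _))
    rw [LocalData.N_eq M, h] at h7
    rw [h, show (List.range (924 + 1)).filter (okSyl 4620 5 1 924) = [11, 21, 66, 231] by decide +kernel] at hM
    simp only [List.mem_cons, List.not_mem_nil, or_false] at hM
    rcases hM with eM | eM | eM | eM <;> rw [eM] at h7 <;> norm_num at h7
    · -- index eleven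
      obtain ⟨x, hxo, hxP, -⟩ := exists_generator_prime hP
      obtain ⟨y, hyo, hyQ, -⟩ := exists_generator_prime hQ
      refine false_of_index_lt (Subgroup.normalizer ((Q : Subgroup G) : Set G))
        (fun ht => M.n_ne (by rw [M.hn, ht, Subgroup.index_top])) (by norm_num : Nat.Prime 7)
        (by norm_num : Nat.Prime 5) (by norm_num) hxo hyo (Subgroup.mem_centralizer_iff.1 (hQP hyQ) x hxP) ?_ ?_
      · rw [← M.hn, eM]; norm_num
      · rw [← M.hn, eM]; norm_num
    · have hCN : Subgroup.centralizer ((P : Subgroup G) : Set G) ≤ Subgroup.normalizer ((Q : Subgroup G) : Set G) := by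
        haveI : IsMulCommutative (P : Subgroup G) := (isCyclic_of_prime_card hP).isMulCommutative
        refine le_normalizer_of_count Q hQP L.hC.symm (P : Subgroup G).le_centralizer
          (hPQ.trans (Subgroup.centralizer_le_normalizer _)) hP fun d hd => ?_
        exact h5C.2 d (Nat.lt_succ_of_le ((Nat.le_mul_of_pos_right d (by norm_num)).trans
          (Nat.le_of_dvd (L.hC ▸ Nat.card_pos) hd))) hd
      have hNN : Subgroup.normalizer ((P : Subgroup G) : Set G) ≤ Subgroup.normalizer ((Q : Subgroup G) : Set G) := by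
        intro g hg
        refine Sylow.smul_eq_iff_mem_normalizer.1 ?_
        have hle : ((g • Q : Sylow 5 G) : Subgroup G) ≤ Subgroup.normalizer ((Q : Subgroup G) : Set G) := by
          refine le_trans ?_ hCN
          rw [Sylow.coe_subgroup_smul]
          intro z hz
          rw [Subgroup.mem_pointwise_smul_iff_inv_smul_mem, MulAut.inv_def, MulAut.smul_def,
            MulAut.conj_symm_apply] at hz
          have h1 := hQP hz
          rw [Subgroup.mem_centralizer_iff] at h1 ⊢
          intro w hw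
          have h3 := h1 (g⁻¹ * w * g) (by
            have := (Subgroup.mem_normalizer_iff.1 (inv_mem hg) w).1 hw
            rwa [inv_inv] at this)
          have h4 := congrArg (fun v => g * v * g⁻¹) h3
          simpa [mul_assoc] using h4
        have h1 := IsPGroup.inf_normalizer_sylow (g • Q : Sylow 5 G).2 (Q := Q)
        change ((g • Q : Sylow 5 G) : Subgroup G) ⊓ Subgroup.normalizer ((Q : Subgroup G) : Set G) = _ at h1
        rw [inf_eq_left.2 hle] at h1
        exact Sylow.ext (((g • Q : Sylow 5 G).3 Q.2 (h1.le.trans inf_le_right)).symm)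
      have h3 := Subgroup.card_dvd_of_le hNN
      rw [← L.hN, ← M.hN, LocalData.N_eq L, LocalData.N_eq M, h, e, eM] at h3
      norm_num at h3
  · rw [show (((List.range 7).filter fun e => decide (2 ≤ e ∧ (7 - 1) % e = 0 ∧ (4620 / 330) % e = 0 ∧
        (4620 / 330 / e) % 7 = 0)).map fun e => (e, 4620 / 330 / e)) = [(2, 7)] by decide +kernel,
      List.mem_singleton, Prod.mk.injEq] at h2
    obtain ⟨he, hC⟩ := h2
    have hCP : Subgroup.centralizer ((P : Subgroup G) : Set G) = P := by
      haveI : IsMulCommutative (P : Subgroup G) := (isCyclic_of_prime_card hP).isMulCommutative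
      exact (Subgroup.eq_of_le_of_card_ge (P : Subgroup G).le_centralizer (by rw [hP, ← L.hC, hC])).symm
    obtain ⟨y, hy⟩ := exists_prime_orderOf_dvd_card' (G := G) 2 (by rw [h]; norm_num)
    revert B
    rw [he]
    intro B
    exact twoFree_false B hCP hy (one_dvd _) (b := 67) (by rw [h]; norm_num) (by rw [h]; decide +kernel)

theorem ne5148 (hG : ¬ IsMulCommutative G) : Nat.card G ≠ 5148 := by
  intro h
  haveI : Fact (Nat.Prime 11) := ⟨by norm_num⟩
  haveI : Fact (Nat.Prime 3) := ⟨by norm_num⟩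
  obtain ⟨P⟩ : Nonempty (Sylow 11 G) := inferInstance
  obtain ⟨hP, L, hL, -⟩ := local_at hG (m := 468) (by norm_num) (by rw [h]) (by norm_num) P
  have h2 := centralizer_mem L
  rw [h] at h2
  rw [h, show (List.range (468 + 1)).filter (okSyl 5148 11 1 468) = [78] by decide +kernel, List.mem_singleton] at hL
  rw [hL, show (((List.range 11).filter fun e => decide (2 ≤ e ∧ (11 - 1) % e = 0 ∧ (5148 / 78) % e = 0 ∧
        (5148 / 78 / e) % 11 = 0)).map fun e => (e, 5148 / 78 / e)) = [(2, 33)] by decide +kernel,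
    List.mem_singleton, Prod.mk.injEq] at h2
  obtain ⟨⟨y, hyC⟩, hyo⟩ := exists_prime_orderOf_dvd_card' (G := Subgroup.centralizer ((P : Subgroup G) : Set G)) 3
    (by rw [← L.hC, h2.2]; norm_num)
  rw [Subgroup.orderOf_mk] at hyo
  have hy1 : y ≠ 1 := fun e => by rw [e, orderOf_one] at hyo; norm_num at hyo
  obtain ⟨T, hT⟩ := (IsPGroup.of_card (p := 3) (n := 1) (G := Subgroup.zpowers y)
    (by rw [Nat.card_zpowers, hyo, pow_one])).exists_le_sylow
  have hTc : Nat.card (T : Subgroup G) = 3 ^ 2 := sylow_card (m := 572) (by rw [h]; norm_num) (by norm_num) T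
  set C := Subgroup.centralizer ({y} : Set G) with hCdef
  have hTC : (T : Subgroup G) ≤ C := fun x hx => by
    rw [hCdef, Subgroup.mem_centralizer_singleton_iff]
    exact congrArg Subtype.val ((IsPGroup.isMulCommutative_of_card_eq_prime_sq hTc).is_comm.comm
      (⟨x, hx⟩ : (T : Subgroup G)) ⟨y, hT (Subgroup.mem_zpowers y)⟩)
  have hPC : (P : Subgroup G) ≤ C := fun x hx => by
    rw [hCdef, Subgroup.mem_centralizer_singleton_iff]
    exact Subgroup.mem_centralizer_iff.1 hyC x hx
  obtain ⟨c, hc⟩ : 99 ∣ Nat.card C := Nat.Coprime.mul_dvd_of_dvd_of_dvd (by norm_num : Nat.Coprime 11 9)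
    (hP ▸ Subgroup.card_dvd_of_le hPC) (by rw [show (9 : ℕ) = 3 ^ 2 by norm_num, ← hTc]; exact Subgroup.card_dvd_of_le hTC)
  have hci := C.card_mul_index
  rw [hc, h, mul_assoc] at hci
  have hd : C.index ∈ Nat.divisors 52 := Nat.mem_divisors.2 ⟨Dvd.intro_left c (by omega), by norm_num⟩
  have hf := two_mul_card_dvd_factorial hG C (centralizer_ne_top hG hy1)
  have hi1 : C.index ≠ 1 := fun e => centralizer_ne_top hG hy1 (Subgroup.index_eq_one.1 e)
  rw [h] at hf
  rw [show Nat.divisors 52 = {1, 2, 4, 13, 26, 52} by decide +kernel] at hd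
  simp only [Finset.mem_insert, Finset.mem_singleton] at hd
  have hbig : 26 ≤ C.index → False := fun h26 => by
    have hck : Nat.card C ∈ [99, 198] := by
      rcases hd with e | e | e | e | e | e <;> rw [e] at h26 hci <;> simp <;> omega
    have hnorm : C ≤ Subgroup.normalizer ((P : Subgroup G) : Set G) := by
      refine le_normalizer_of_count P hPC rfl (bot_le : ⊥ ≤ C) bot_le Subgroup.card_bot fun d hd' hm => ?_
      rw [mul_one] at hd'
      have hle := Nat.le_of_dvd Nat.card_pos hd'
      simp only [List.mem_cons, List.not_mem_nil, or_false] at hck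
      rcases hck with e | e <;> rw [e] at hd' hle
      · exact (show ∀ d < 100, d ∣ 99 → d % 11 = 1 → d = 1 by decide +kernel) d (by omega) hd' hm
      · exact (show ∀ d < 199, d ∣ 198 → d % 11 = 1 → d = 1 by decide +kernel) d (by omega) hd' hm
    have h3 := Subgroup.card_dvd_of_le hnorm
    rw [← L.hN, LocalData.N_eq L, h, hL] at h3
    simp only [List.mem_cons, List.not_mem_nil, or_false] at hck
    rcases hck with e | e <;> rw [e] at h3 <;> norm_num at h3
  rcases hd with e | e | e | e | e | e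
  · exact hi1 e
  · rw [e] at hf; norm_num [Nat.factorial] at hf
  · rw [e] at hf; norm_num [Nat.factorial] at hf
  · obtain ⟨x, hxo, hxP, -⟩ := exists_generator_prime hP
    exact false_of_index_lt C (centralizer_ne_top hG hy1) (by norm_num : Nat.Prime 11) Nat.prime_three (by norm_num)
      hxo hyo (Subgroup.mem_centralizer_iff.1 hyC x hxP) (by omega) (by omega)
  · exact hbig (by omega)
  · exact hbig (by omega)

theorem ne5460 (hG : ¬ IsMulCommutative G) : Nat.card G ≠ 5460 := by
  intro h
  haveI : Fact (Nat.Prime 13) := ⟨by norm_num⟩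
  haveI : Fact (Nat.Prime 2) := ⟨Nat.prime_two⟩
  obtain ⟨P⟩ : Nonempty (Sylow 13 G) := inferInstance
  obtain ⟨hP, L, hL, ⟨B⟩⟩ := local_at hG (m := 420) (by norm_num) (by rw [h]) (by norm_num) P
  have h2 := centralizer_mem L
  rw [h] at h2
  rw [h, show (List.range (420 + 1)).filter (okSyl 5460 13 1 420) = [105] by decide +kernel, List.mem_singleton] at hL
  rw [hL, show (((List.range 13).filter fun e => decide (2 ≤ e ∧ (13 - 1) % e = 0 ∧ (5460 / 105) % e = 0 ∧
        (5460 / 105 / e) % 13 = 0)).map fun e => (e, 5460 / 105 / e)) = [(2, 26), (4, 13)] by decide +kernel] at h2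
  simp only [List.mem_cons, List.not_mem_nil, or_false, Prod.mk.injEq] at h2
  rcases h2 with ⟨he, hC⟩ | ⟨he, hC⟩
  · exact noBlock_false (b := 73) (by norm_num) L B (by rw [h]; norm_num) (by rw [h, he, hC]; decide +kernel)
  have hCP : Subgroup.centralizer ((P : Subgroup G) : Set G) = P := by
    haveI : IsMulCommutative (P : Subgroup G) := (isCyclic_of_prime_card hP).isMulCommutative
    exact (Subgroup.eq_of_le_of_card_ge (P : Subgroup G).le_centralizer (by rw [hP, ← L.hC, hC])).symm
  obtain ⟨y, hy⟩ := exists_prime_orderOf_dvd_card' (G := G) 2 (by rw [h]; norm_num)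
  revert B
  rw [he]
  intro B
  have hmem := B.D_mem (b := 73) (by rw [h]; norm_num)
  obtain ⟨A, b, -, -, hs', -, -, hform, hA0⟩ := B.invol_full y hy
  have hf := hform hCP
  have hEs := B.E_spec
  have hs := B.sum
  obtain ⟨n, hn, D, E, hD, hE, hsum, hsq, inv, dc, ec⟩ := B
  obtain rfl : n = 3 := by omega
  simp only [Fin.sum_univ_three] at hs hs' hf hsq
  simp only [h] at hmem hEs
  have hall : (((cands 5460 13 73).all fun a => (cands 5460 13 73).all fun c => (cands 5460 13 73).all fun d =>
      decide (a = -12 ∧ c = -12 ∧ d = -12) ||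
        !(okE 5460 13 4 1 (-1 - (a + c + d)) (1 + (a ^ 2 + c ^ 2 + d ^ 2)))) : Bool) = true := by decide +kernel
  simp only [List.all_eq_true, Bool.or_eq_true, decide_eq_true_eq] at hall
  rcases hall _ (hmem 0) _ (hmem 1) _ (hmem 2) with ⟨d0, d1, d2⟩ | h'
  swap
  · rw [show -1 - (D 0 + D 1 + D 2) = E by linarith, Bool.not_eq_true'] at h'
    simp only [okE, Bool.and_eq_false_iff, decide_eq_false_iff_not] at h'
    obtain ⟨hE1, hE2, hE3⟩ := hEs
    rw [Int.abs_eq_natAbs] at hE1
    have e1 : 1 < E.natAbs := by omega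
    have e2 : 5460 % E.natAbs = 0 :=
      Nat.mod_eq_zero_of_dvd (Int.natCast_dvd_natCast.1 (Int.natAbs_dvd.2 hE2))
    have e3 := Int.emod_eq_zero_of_dvd hE3
    rw [h] at hsq
    rcases h' with ((h' | h') | h') | h'
    · exact h' e1
    · exact h' e2
    · exact h' e3
    · exact h' hsq
  have hA : ∀ i, A i = 0 := fun i => hA0 i 2 (by
    fin_cases i <;> simp_all) (by norm_num) (by rw [h]; norm_num)
  obtain rfl : E = 35 := by linarith
  rw [hA 0, hA 1, hA 2] at hs' hf
  obtain rfl : b = -1 := by linarith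
  rw [h, d0, d1, d2] at hf
  set c := Nat.card (Subgroup.centralizer ({y} : Set G))
  rcases hf with hf | ⟨hf, -⟩
  · norm_num at hf
    have hc : c * c = 432 := by exact_mod_cast (show (c : ℚ) * c = 432 by linarith)
    have : c < 21 := by nlinarith
    interval_cases c <;> omega
  · norm_num at hf

theorem ne6000 (hG : ¬ IsMulCommutative G) : Nat.card G ≠ 6000 := by
  intro h
  haveI : Fact (Nat.Prime 3) := ⟨by norm_num⟩
  haveI : Fact (Nat.Prime 5) := ⟨by norm_num⟩
  obtain ⟨P⟩ : Nonempty (Sylow 3 G) := inferInstance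
  obtain ⟨hP, L, hL, ⟨B⟩⟩ := local_at hG (m := 2000) (by norm_num) (by rw [h]) (by norm_num) P
  rw [h] at hL
  have hall : (((List.range (2000 + 1)).filter (okSyl 6000 3 1 2000)).all fun d =>
      (((List.range 3).filter fun e => decide (2 ≤ e ∧ (3 - 1) % e = 0 ∧ (6000 / d) % e = 0 ∧
        (6000 / d / e) % 3 = 0)).map fun e => (e, 6000 / d / e)).all fun ec =>
          decide (ec.2 = 75 ∨ ec.2 = 3) || noBlock 6000 3 77 ec.1 ec.2) = true := by
    decide +kernel
  rw [List.all_eq_true] at hall
  have h1 := hall _ hL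
  rw [List.all_eq_true] at h1
  have h2 := centralizer_mem L
  rw [h] at h2
  have h3 := h1 _ h2
  simp only [Bool.or_eq_true, decide_eq_true_eq] at h3
  have he : L.e = 2 := by
    have := L.e_ne
    exact ((Nat.dvd_prime Nat.prime_two).1 L.e_dvd).resolve_left this
  rcases h3 with (hC | hC) | hB
  swap
  · have hCP : Subgroup.centralizer ((P : Subgroup G) : Set G) = P := by
      haveI : IsMulCommutative (P : Subgroup G) := (isCyclic_of_prime_card hP).isMulCommutative
      exact (Subgroup.eq_of_le_of_card_ge (P : Subgroup G).le_centralizer (by rw [hP, ← L.hC, hC])).symm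
    obtain ⟨y, hy, hy16⟩ := exists_central_involution (G := G) (by rw [h]; norm_num)
    have h16 : 16 ∣ Nat.card (Subgroup.centralizer ({y} : Set G)) := by
      have h4 : 4 ≤ (Nat.card G).factorization 2 := by
        rw [← Nat.prime_two.pow_dvd_iff_le_factorization Nat.card_pos.ne', h]
        norm_num
      exact dvd_trans (by norm_num : (16 : ℕ) ∣ 2 ^ 4) ((pow_dvd_pow 2 h4).trans hy16)
    revert B
    rw [he]
    intro B
    exact twoFree_false B hCP hy h16 (b := 77) (by rw [h]; norm_num) (by rw [h]; decide +kernel)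
  swap
  · exact noBlock_false (b := 77) (by norm_num) L B (by rw [h]; norm_num) (by rw [h]; exact hB)
  obtain ⟨Q₀, hQ₀⟩ := Sylow.exists_subgroup_card_pow_prime (G := Subgroup.centralizer ((P : Subgroup G) : Set G)) 5
    (n := 2) (by rw [← L.hC, hC]; norm_num)
  set Q := Q₀.map (Subgroup.centralizer ((P : Subgroup G) : Set G)).subtype with hQdef
  have hQ : Nat.card Q = 5 ^ 2 := by
    rw [hQdef, Subgroup.card_map_of_injective (Subgroup.subtype_injective _), hQ₀]
  obtain ⟨S, hQS⟩ := (IsPGroup.of_card hQ).exists_le_sylow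
  have hS : Nat.card (S : Subgroup G) = 5 ^ 3 := sylow_card (m := 48) (by rw [h]; norm_num) (by norm_num) S
  obtain ⟨z, hzQ, hz1, hzS⟩ := exists_central_mem hS hQS hQ
  set C := Subgroup.centralizer ({z} : Set G) with hCdef
  have hSC : (S : Subgroup G) ≤ C := fun g hg => by
    rw [hCdef, Subgroup.mem_centralizer_singleton_iff]; exact (hzS g hg).symm
  have hPC : (P : Subgroup G) ≤ C := fun g hg => by
    rw [hCdef, Subgroup.mem_centralizer_singleton_iff]
    obtain ⟨⟨w, hw⟩, -, rfl⟩ := hzQ
    exact Subgroup.mem_centralizer_iff.1 hw g hg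
  obtain ⟨c, hc⟩ : 375 ∣ Nat.card C := Nat.Coprime.mul_dvd_of_dvd_of_dvd (by norm_num : Nat.Coprime 3 125)
    (hP ▸ Subgroup.card_dvd_of_le hPC) (by rw [show (125 : ℕ) = 5 ^ 3 by norm_num, ← hS]; exact Subgroup.card_dvd_of_le hSC)
  have hci := C.card_mul_index
  rw [hc, h, mul_assoc] at hci
  exact index_ne_ppow hG hz1 Nat.prime_two (a := 4) (show C.index ∣ 2 ^ 4 from Dvd.intro_left c (by omega))

end CfsgLib.SmallOrdB
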