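import Cfsg.Agent.SmallOrders.Filter

/-!
Certificates for the orders from 3641 to 6232, part 0.
-/

set_option autoImplicit false
set_option linter.style.longLine false

namespace CfsgLib.SmallOrdB

open CfsgLib.SmallOrd

/-- Orders from 3641 on. -/
def certs0 : List Cert :=
  [.two 11 1 331 1, .four, .two 3643 1 3643 0, .two 2 2 911 1, .two 3 6 5 1, .two 2 1 1823 1, .two 7 1 521 1, .keep, .two 41 1 89 1, .four, .two 3 1 1217 1, .syl 83 1 44, .two 13 1 281 1, .four, .syl 43 1 85, .two 2 3 457 1, .syl 53 1 69, .four, .two 3659 1 3659 0, .syl 61 1 60, .two 7 1 523 1, .two 2 1 1831 1, .syl 37 1 99, .two 2 4 229 1, .two 5 1 733 1, .four, .two 19 1 193 1, .syl 131 1 28, .two 3 1 1223 1, .four, .two 3671 1 3671 0, .syl 17 1 216, .two 3673 1 3673 0, .four, .syl 3 1 1225, .two 2 2 919 1, .two 3677 1 3677 0, .four, .two 13 1 283 1, .syl 23 1 160, .two 3 2 409 1, .four, .two 29 1 127 1, .syl 307 1 12, .syl 67 1 55, .four, .two 3 1 1229 1, .two 2 3 461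 1, .syl 31 1 119, .four, .two 3691 1 3691 0, .syl 71 1 52, .two 3 1 1231 1, .two 2 1 1847 1, .two 5 1 739 1, .keep, .two 3697 1 3697 0, .two 2 1 43 2, .two 3 3 137 1, .syl 37 1 100, .two 3701 1 3701 0, .four, .two 7 1 23 2, .two 2 3 463 1, .syl 19 1 195, .four, .two 11 1 337 1, .syl 103 1 36, .two 3709 1 3709 0, .four, .two 3 1 1237 1, .two 2 7 29 1, .two 47 1 79 1, .four, .two 5 1 743 1, .two 2 2 929 1, .syl 59 1 63, .four, .two 3719 1 3719 0, .syl 31 1 120, .two 61 2 61 0, .two 2 1 1861 1, .syl 73 1 51, .syl 19 1 196, .two 5 2 149 1, .four, .two 3727 1 3727 0, .two 2 4 233 1, .syl 113 1 33, .four, .syl 41 1 91, .syl 311 1 12, .two 3733 1 3733 0, .two 2 1 1867 1, .syl 83 1 45, .two 2 3 467 1, .two 37 1 101 1, .four, .two 3739 1 3739 0, .syl 17 1 220]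

/-- The orders left among them. -/
def keeps0 : List ℕ := [3648, 3696]

theorem check0 : (certs0.zipIdx.all fun x => x.1.check (3641 + x.2)) = true := by decide +kernel

theorem keep0 : (certs0.zipIdx.all fun x => !(x.1 matches .keep) || decide (3641 + x.2 ∈ keeps0)) = true := by decide +kernel

/-- Orders from 3741 on. -/
def certs1 : List Cert :=
  [.syl 43 1 87, .two 2 1 1871 1, .two 19 1 197 1, .keep, .syl 107 1 35, .two 2 1 1873 1, .two 3 1 1249 1, .two 2 2 937 1, .two 23 1 163 1, .four, .two 11 2 31 1, .syl 67 1 56, .two 3 3 139 1, .two 2 1 1877 1, .two 5 1 751 1, .syl 313 1 12, .two 13 1 17 2, .two 2 1 1879 1, .syl 179 1 21, .syl 47 1 80, .two 3761 1 3761 0, .four, .two 53 1 71 1, .two 2 2 941 1, .syl 251 1 15, .four, .two 3767 1 3767 0, .syl 157 1 24, .two 3769 1 3769 0, .four, .two 3 2 419 1, .syl 41 1 92, .two 7 3 11 1, .four, .two 5 2 151 1, .two 2 6 59 1, .two 3 1 1259 1, .two 2 1 1889 1, .two 3779 1 3779 0, .keep, .two 19 1 199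 1, .four, .syl 97 1 39, .syl 43 1 88, .two 5 1 757 1, .four, .two 7 1 541 1, .two 2 2 947 1, .two 3 2 421 1, .four, .two 17 1 223 1, .syl 79 1 48, .two 3793 1 3793 0, .four, .syl 23 1 165, .syl 73 1 52, .two 3797 1 3797 0, .four, .two 29 1 131 1, .syl 19 1 200, .syl 181 1 21, .two 2 1 1901 1, .two 3803 1 3803 0, .syl 317 1 12, .two 5 1 761 1, .four, .two 3 4 47 1, .syl 17 1 224, .two 13 1 293 1, .four, .two 37 1 103 1, .two 2 2 953 1, .syl 41 1 93, .two 2 1 1907 1, .syl 109 1 35, .syl 53 1 72, .two 11 1 347 1, .four, .syl 67 1 57, .syl 191 1 20, .two 3821 1 3821 0, .four, .two 3823 1 3823 0, .two 2 4 239 1, .syl 17 1 225, .two 2 1 1913 1, .two 43 1 89 1, .syl 29 1 132, .two 7 1 547 1, .four, .two 3 1 1277 1, .two 2 3 479 1, .two 3833 1 3833 0, .four, .syl 59 1 65, .syl 137 1 28, .two 3 1 1279 1, .four, .two 11 1 349 1, .keep]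

/-- The orders left among them. -/
def keeps1 : List ℕ := [3744, 3780, 3840]

theorem check1 : (certs1.zipIdx.all fun x => x.1.check (3741 + x.2)) = true := by decide +kernel

theorem keep1 : (certs1.zipIdx.all fun x => !(x.1 matches .keep) || decide (3741 + x.2 ∈ keeps1)) = true := by decide +kernel

/-- Orders from 3841 on. -/
def certs2 : List Cert :=
  [.two 23 1 167 1, .four, .syl 61 1 63, .two 2 2 31 2, .two 5 1 769 1, .four, .two 3847 1 3847 0, .syl 37 1 104, .two 3 1 1283 1, .four, .two 3851 1 3851 0, .syl 107 1 36, .two 3853 1 3853 0, .four, .syl 257 1 15, .two 2 4 241 1, .syl 29 1 133, .four, .two 17 1 227 1, .syl 193 1 20, .syl 13 1 297, .two 2 1 1931 1, .two 3863 1 3863 0, .syl 23 1 168, .two 5 1 773 1, .two 2 1 1933 1, .two 3 1 1289 1, .two 2 2 967 1, .two 53 1 73 1, .four, .two 7 2 79 1, .two 2 5 11 2, .two 3 1 1291 1, .four, .two 5 3 31 1, .syl 19 1 204, .two 3877 1 3877 0, .four, .two 3 2 431 1, .syl 97 1 40, .two 3881 1 3881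 0, .four, .two 11 1 353 1, .two 2 2 971 1, .syl 37 1 105, .four, .two 13 2 23 1, .two 2 4 3 5, .two 3889 1 3889 0, .four, .two 3 1 1297 1, .syl 139 1 28, .two 17 1 229 1, .four, .syl 41 1 95, .two 2 3 487 1, .two 3 2 433 1, .two 2 1 1949 1, .two 7 1 557 1, .syl 13 1 300, .two 47 1 83 1, .two 2 1 1951 1, .two 3 1 1301 1, .two 2 6 61 1, .syl 71 1 55, .four, .two 3907 1 3907 0, .two 2 2 977 1, .two 3 1 1303 1, .four, .two 3911 1 3911 0, .syl 163 1 24, .syl 43 1 91, .four, .syl 29 1 135, .syl 89 1 44, .two 3917 1 3917 0, .four, .two 3919 1 3919 0, .syl 7 2 80, .two 3 1 1307 1, .four, .two 3923 1 3923 0, .syl 109 1 36, .two 5 2 157 1, .four, .syl 17 1 231, .two 2 3 491 1, .two 3929 1 3929 0, .four, .two 3931 1 3931 0, .two 2 2 983 1, .syl 23 1 171, .four, .two 5 1 787 1, .syl 41 1 96, .two 31 1 127 1, .four, .syl 101 1 39, .syl 197 1 20]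

/-- The orders left among them. -/
def keeps2 : List ℕ := []

theorem check2 : (certs2.zipIdx.all fun x => x.1.check (3841 + x.2)) = true := by decide +kernel

theorem keep2 : (certs2.zipIdx.all fun x => !(x.1 matches .keep) || decide (3841 + x.2 ∈ keeps2)) = true := by decide +kernel

/-- Orders from 3941 on. -/
def certs3 : List Cert :=
  [.two 7 1 563 1, .four, .two 3943 1 3943 0, .syl 29 1 136, .syl 263 1 15, .two 2 1 1973 1, .two 3947 1 3947 0, .syl 47 1 84, .two 11 1 359 1, .four, .two 3 2 439 1, .syl 19 1 208, .two 59 1 67 1, .four, .syl 113 1 35, .syl 43 1 92, .two 3 1 1319 1, .two 2 1 1979 1, .two 37 1 107 1, .keep, .two 17 1 233 1, .four, .two 3 1 1321 1, .two 2 2 991 1, .syl 61 1 65, .four, .two 3967 1 3967 0, .two 2 7 31 1, .two 3 4 7 2, .four, .two 11 1 19 2, .syl 331 1 12, .two 29 1 137 1, .two 2 1 1987 1, .syl 53 1 75, .syl 71 1 56, .two 41 1 97 1, .four, .two 23 1 173 1, .syl 199 1 20, .two 3 1 1327 1, .four, .two 7 1 569 1,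 .syl 83 1 48, .two 5 1 797 1, .two 2 1 1993 1, .two 3 2 443 1, .two 2 2 997 1, .two 3989 1 3989 0, .four, .two 13 1 307 1, .two 2 3 499 1, .two 3 1 11 3, .two 2 1 1997 1, .syl 47 1 85, .syl 37 1 108, .two 7 1 571 1, .two 2 1 1999 1, .syl 43 1 93, .two 2 5 5 3, .two 4001 1 4001 0, .four, .two 4003 1 4003 0, .syl 13 1 308, .syl 89 1 45, .two 2 1 2003 1, .two 4007 1 4007 0, .syl 167 1 24, .two 19 1 211 1, .four, .syl 191 1 21, .syl 59 1 68, .two 4013 1 4013 0, .four, .syl 73 1 55, .two 2 4 251 1, .syl 103 1 39, .four, .two 4019 1 4019 0, .syl 67 1 60, .two 4021 1 4021 0, .two 2 1 2011 1, .two 3 3 149 1, .two 2 3 503 1, .syl 23 1 175, .four, .two 4027 1 4027 0, .syl 53 1 76, .syl 79 1 51, .four, .two 29 1 139 1, .keep, .two 37 1 109 1, .two 2 1 2017 1, .syl 269 1 15, .two 2 2 1009 1, .two 11 1 367 1, .four, .two 7 1 577 1, .syl 101 1 40]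

/-- The orders left among them. -/
def keeps3 : List ℕ := [3960, 4032]

theorem check3 : (certs3.zipIdx.all fun x => x.1.check (3941 + x.2)) = true := by decide +kernel

theorem keep3 : (certs3.zipIdx.all fun x => !(x.1 matches .keep) || decide (3941 + x.2 ∈ keeps3)) = true := by decide +kernel

/-- Orders from 4041 on. -/
def certs4 : List Cert :=
  [.two 3 2 449 1, .four, .two 13 1 311 1, .syl 337 1 12, .two 5 1 809 1, .four, .syl 71 1 57, .syl 23 1 176, .two 4049 1 4049 0, .four, .two 4051 1 4051 0, .two 2 2 1013 1, .syl 193 1 21, .two 2 1 2027 1, .two 5 1 811 1, .syl 13 2 24, .two 4057 1 4057 0, .two 2 1 2029 1, .syl 41 1 99, .syl 29 1 140, .two 31 1 131 1, .four, .two 17 1 239 1, .two 2 5 127 1, .syl 271 1 15, .four, .two 7 2 83 1, .syl 113 1 36, .two 13 1 313 1, .four, .syl 59 1 69, .two 2 3 509 1, .two 4073 1 4073 0, .four, .two 5 2 163 1, .two 2 2 1019 1, .two 3 3 151 1, .two 2 1 2039 1, .two 4079 1 4079 0, .keep, .syl 53 1 77, .four,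 .two 3 1 1361 1, .two 2 2 1021 1, .syl 43 1 95, .four, .two 61 1 67 1, .syl 73 1 56, .syl 47 1 87, .four, .two 4091 1 4091 0, .syl 31 1 132, .two 4093 1 4093 0, .four, .syl 5 1 819, .two 2 12 2 0, .two 17 1 241 1, .four, .two 4099 1 4099 0, .syl 41 1 100, .two 3 1 1367 1, .four, .two 11 1 373 1, .syl 19 1 216, .two 5 1 821 1, .two 2 1 2053 1, .two 3 1 37 2, .syl 79 1 52, .two 7 1 587 1, .four, .two 4111 1 4111 0, .two 2 4 257 1, .two 3 2 457 1, .four, .two 5 1 823 1, .syl 7 3 12, .two 23 1 179 1, .four, .two 3 1 1373 1, .syl 103 1 40, .two 13 1 317 1, .four, .syl 31 1 133, .two 2 2 1031 1, .syl 11 1 375, .two 2 1 2063 1, .two 4127 1 4127 0, .syl 43 1 96, .two 4129 1 4129 0, .four, .two 3 5 17 1, .two 2 2 1033 1, .two 4133 1 4133 0, .four, .two 5 1 827 1, .syl 47 1 88, .syl 197 1 21, .two 2 1 2069 1, .two 4139 1 4139 0, .syl 23 1 180]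

/-- The orders left among them. -/
def keeps4 : List ℕ := [4080]

theorem check4 : (certs4.zipIdx.all fun x => x.1.check (4041 + x.2)) = true := by decide +kernel

theorem keep4 : (certs4.zipIdx.all fun x => !(x.1 matches .keep) || decide (4041 + x.2 ∈ keeps4)) = true := by decide +kernel

/-- Orders from 4141 on. -/
def certs5 : List Cert :=
  [.two 41 1 101 1, .four, .two 3 1 1381 1, .syl 37 1 112, .two 5 1 829 1, .four, .syl 29 1 143, .syl 61 1 68, .two 3 2 461 1, .four, .two 7 1 593 1, .syl 173 1 24, .two 4153 1 4153 0, .four, .syl 277 1 15, .two 2 2 1039 1, .two 4157 1 4157 0, .four, .two 4159 1 4159 0, .keep, .syl 73 1 57, .two 2 1 2081 1, .two 23 1 181 1, .syl 347 1 12, .syl 17 1 245, .two 2 1 2083 1, .two 3 2 463 1, .two 2 3 521 1, .two 11 1 379 1, .four, .two 43 1 97 1, .syl 149 1 28, .syl 107 1 39, .two 2 1 2087 1, .two 5 2 167 1, .syl 29 1 144, .two 4177 1 4177 0, .two 2 1 2089 1, .syl 199 1 21, .syl 19 1 220, .two 37 1 113 1, .four,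 .two 47 1 89 1, .two 2 3 523 1, .syl 31 1 135, .four, .two 53 1 79 1, .syl 349 1 12, .two 59 1 71 1, .four, .syl 127 1 33, .two 2 5 131 1, .two 7 1 599 1, .four, .two 5 1 839 1, .two 2 2 1049 1, .two 3 1 1399 1, .two 2 1 2099 1, .syl 19 1 221, .keep, .two 4201 1 4201 0, .four, .two 3 2 467 1, .two 2 2 1051 1, .two 5 1 29 2, .four, .two 7 1 601 1, .two 2 4 263 1, .syl 61 1 69, .four, .two 4211 1 4211 0, .keep, .two 11 1 383 1, .four, .syl 281 1 15, .syl 31 1 136, .two 4217 1 4217 0, .four, .two 4219 1 4219 0, .syl 211 1 20, .syl 67 1 63, .two 2 1 2111 1, .two 41 1 103 1, .syl 11 1 384, .two 5 2 13 2, .two 2 1 2113 1, .two 3 1 1409 1, .syl 151 1 28, .two 4229 1 4229 0, .four, .two 4231 1 4231 0, .two 2 3 23 2, .syl 83 1 51, .four, .syl 11 2 35, .syl 353 1 12, .two 19 1 223 1, .four, .two 3 3 157 1, .syl 53 1 80]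

/-- The orders left among them. -/
def keeps5 : List ℕ := [4160, 4200, 4212]

theorem check5 : (certs5.zipIdx.all fun x => x.1.check (4141 + x.2)) = true := by decide +kernel

theorem keep5 : (certs5.zipIdx.all fun x => !(x.1 matches .keep) || decide (4141 + x.2 ∈ keeps5)) = true := by decide +kernel

/-- Orders from 4241 on. -/
def certs6 : List Cert :=
  [.two 4241 1 4241 0, .four, .two 4243 1 4243 0, .two 2 2 1061 1, .syl 283 1 15, .four, .two 31 1 137 1, .syl 59 1 72, .two 7 1 607 1, .four, .syl 109 1 39, .two 2 2 1063 1, .two 4253 1 4253 0, .four, .syl 37 1 115, .syl 19 1 224, .syl 43 1 99, .two 2 1 2129 1, .two 4259 1 4259 0, .syl 71 1 60, .two 4261 1 4261 0, .two 2 1 2131 1, .syl 29 1 147, .syl 41 1 104, .two 5 1 853 1, .four, .two 17 1 251 1, .syl 97 1 44, .two 3 1 1423 1, .four, .two 4271 1 4271 0, .syl 89 1 48, .two 4273 1 4273 0, .two 2 1 2137 1, .syl 19 1 225, .two 2 2 1069 1, .syl 47 1 91, .four, .two 11 1 389 1, .syl 107 1 40,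 .two 3 1 1427 1, .two 2 1 2141 1, .two 4283 1 4283 0, .syl 17 1 252, .two 5 1 857 1, .two 2 1 2143 1, .two 3 1 1429 1, .two 2 6 67 1, .two 4289 1 4289 0, .four, .two 7 1 613 1, .syl 37 1 116, .two 3 4 53 1, .four, .two 5 1 859 1, .syl 179 1 24, .two 4297 1 4297 0, .four, .two 3 1 1433 1, .syl 43 1 100, .syl 23 1 187, .four, .two 13 1 331 1, .two 2 4 269 1, .syl 41 1 105, .two 2 1 2153 1, .two 59 1 73 1, .syl 359 1 12, .two 31 1 139 1, .four, .two 3 2 479 1, .syl 11 1 392, .two 19 1 227 1, .four, .two 5 1 863 1, .syl 83 1 52, .two 3 1 1439 1, .four, .two 7 1 617 1, .keep, .two 29 1 149 1, .two 2 1 2161 1, .syl 131 1 33, .syl 47 1 92, .two 5 2 173 1, .four, .two 4327 1 4327 0, .two 2 3 541 1, .syl 37 1 117, .four, .two 61 1 71 1, .syl 19 2 12, .two 7 1 619 1, .four, .syl 17 2 15, .two 2 4 271 1, .two 4337 1 4337 0, .four, .two 4339 1 4339 0, .syl 31 1 140]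

/-- The orders left among them. -/
def keeps6 : List ℕ := [4320]

theorem check6 : (certs6.zipIdx.all fun x => x.1.check (4241 + x.2)) = true := by decide +kernel

theorem keep6 : (certs6.zipIdx.all fun x => !(x.1 matches .keep) || decide (4241 + x.2 ∈ keeps6)) = true := by decide +kernel

/-- Orders from 4341 on. -/
def certs7 : List Cert :=
  [.two 3 1 1447 1, .four, .two 43 1 101 1, .syl 181 1 24, .syl 79 1 55, .four, .syl 23 1 189, .two 2 2 1087 1, .two 4349 1 4349 0, .four, .two 19 1 229 1, .two 2 8 17 1, .two 3 1 1451 1, .four, .syl 67 1 65, .syl 11 2 36, .two 4357 1 4357 0, .two 2 1 2179 1, .two 3 1 1453 1, .syl 109 1 40, .two 7 2 89 1, .four, .two 4363 1 4363 0, .two 2 2 1091 1, .syl 97 1 45, .four, .two 11 1 397 1, .syl 13 1 336, .two 17 1 257 1, .four, .syl 47 1 93, .two 2 2 1093 1, .two 4373 1 4373 0, .two 2 1 3 7, .two 5 4 7 1, .two 2 3 547 1, .two 3 1 1459 1, .four, .two 29 1 151 1, .syl 73 1 60, .two 13 1 337 1, .four, .two 3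 2 487 1, .two 2 5 137 1, .two 5 1 877 1, .four, .two 41 1 107 1, .two 2 2 1097 1, .syl 11 1 399, .four, .two 4391 1 4391 0, .syl 61 1 72, .two 23 1 191 1, .two 2 1 13 3, .syl 293 1 15, .syl 157 1 28, .two 4397 1 4397 0, .four, .two 53 1 83 1, .keep, .two 3 3 163 1, .four, .syl 37 1 119, .syl 367 1 12, .two 5 1 881 1, .two 2 1 2203 1, .syl 113 1 39, .syl 29 1 152, .two 4409 1 4409 0, .four, .two 11 1 401 1, .two 2 2 1103 1, .two 3 1 1471 1, .two 2 1 2207 1, .two 5 1 883 1, .syl 23 1 192, .two 7 1 631 1, .two 2 1 47 2, .two 3 2 491 1, .syl 17 1 260, .two 4421 1 4421 0, .four, .two 4423 1 4423 0, .syl 79 1 56, .syl 59 1 75, .two 2 1 2213 1, .two 19 1 233 1, .syl 41 1 108, .two 43 1 103 1, .four, .syl 211 1 21, .two 2 4 277 1, .syl 31 1 143, .four, .two 5 1 887 1, .two 2 2 1109 1, .syl 29 1 153, .four, .two 23 1 193 1, .syl 37 1 120]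

/-- The orders left among them. -/
def keeps7 : List ℕ := [4400]

theorem check7 : (certs7.zipIdx.all fun x => x.1.check (4341 + x.2)) = true := by decide +kernel

theorem keep7 : (certs7.zipIdx.all fun x => !(x.1 matches .keep) || decide (4341 + x.2 ∈ keeps7)) = true := by decide +kernel

/-- Orders from 4441 on. -/
def certs8 : List Cert :=
  [.two 4441 1 4441 0, .two 2 1 2221 1, .two 3 1 1481 1, .syl 101 1 44, .syl 127 1 35, .four, .two 4447 1 4447 0, .two 2 5 139 1, .two 3 1 1483 1, .four, .two 4451 1 4451 0, .syl 53 1 84, .two 61 1 73 1, .four, .syl 11 1 405, .two 2 3 557 1, .two 4457 1 4457 0, .four, .two 7 3 13 1, .syl 223 1 20, .two 3 1 1487 1, .four, .two 4463 1 4463 0, .syl 31 1 144, .syl 47 1 95, .four, .two 3 1 1489 1, .two 2 2 1117 1, .two 41 1 109 1, .four, .two 17 1 263 1, .syl 43 1 104, .syl 71 1 63, .two 2 1 2237 1, .two 5 2 179 1, .syl 373 1 12, .two 11 2 37 1, .two 2 1 2239 1, .two 3 1 1493 1, .keep, .two 4481 1 4481 0,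 .four, .two 4483 1 4483 0, .syl 59 1 76, .syl 23 1 195, .two 2 1 2243 1, .two 7 1 641 1, .syl 17 1 264, .two 67 2 67 0, .four, .two 3 2 499 1, .two 2 2 1123 1, .two 4493 1 4493 0, .four, .syl 31 1 145, .two 2 4 281 1, .two 3 1 1499 1, .four, .two 11 1 409 1, .keep, .two 7 1 643 1, .two 2 1 2251 1, .syl 79 1 57, .two 2 3 563 1, .syl 53 1 85, .four, .two 4507 1 4507 0, .syl 23 1 196, .two 3 3 167 1, .four, .two 13 1 347 1, .syl 47 1 96, .two 4513 1 4513 0, .four, .syl 43 1 105, .two 2 2 1129 1, .two 4517 1 4517 0, .four, .two 4519 1 4519 0, .syl 113 1 40, .syl 137 1 33, .four, .two 4523 1 4523 0, .syl 29 1 156, .two 5 2 181 1, .four, .two 3 2 503 1, .two 2 4 283 1, .two 7 1 647 1, .four, .two 23 1 197 1, .syl 103 1 44, .two 3 1 1511 1, .two 2 1 2267 1, .two 5 1 907 1, .keep, .two 13 1 349 1, .two 2 1 2269 1, .syl 89 1 51, .syl 227 1 20]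

/-- The orders left among them. -/
def keeps8 : List ℕ := [4480, 4500, 4536]

theorem check8 : (certs8.zipIdx.all fun x => x.1.check (4441 + x.2)) = true := by decide +kernel

theorem keep8 : (certs8.zipIdx.all fun x => !(x.1 matches .keep) || decide (4441 + x.2 ∈ keeps8)) = true := by decide +kernel

end CfsgLib.SmallOrdB
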