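import Cfsg.Agent.SmallOrders.BlockFilter
import Cfsg.Agent.SmallOrders.DegreeMod

/-!
Tools excluding single orders between 3641 and 6232: local data, crossing of two Sylow subgroups,
commuting elements in small permutation representations, searches in a principal block.
-/

set_option autoImplicit false
set_option linter.style.haveILetI false
set_option linter.unusedSectionVars false

namespace CfsgLib.SmallOrdB

open CfsgLib.SmallOrd

universe u

variable {G : Type u} [Group G] [Finite G] [IsSimpleGroup G]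

/-- The data at every Sylow subgroup of order `p`. -/
theorem local_at (hG : ¬ IsMulCommutative G) {p m : ℕ} [Fact p.Prime] (hp2 : p ≠ 2) (h : Nat.card G = p * m)
    (hm : ¬ p ∣ m) (P : Sylow p G) :
    Nat.card (P : Subgroup G) = p ∧ ∃ L : LocalData (G := G) p (P : Subgroup G),
      L.n ∈ (List.range (m + 1)).filter (okSyl (Nat.card G) p 1 m) ∧
      Nonempty (BlockData (G := G) p L.e (P : Subgroup G)) := by
  have hP : Nat.card (P : Subgroup G) = p := by
    have := sylow_card (p := p) (k := 1) (m := m) (by rw [pow_one]; exact h) hm P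
    rwa [pow_one] at this
  have hne : Nat.card G ≠ p := fun e => hG <| by
    haveI := isCyclic_of_prime_card (α := G) e
    exact IsCyclic.isMulCommutative
  obtain ⟨L⟩ := exists_localData P hP hne
  refine ⟨hP, L, ?_, exists_blockData hG hp2 P hP L.he⟩
  have h1 := okSyl_card hG (a := 1) (by rw [pow_one]; exact h) hm Nat.one_pos P
  rwa [show Nat.card (Sylow p G) = L.n from P.card_eq_index_normalizer.trans L.hn.symm] at h1

theorem LocalData.N_eq {p : ℕ} {P : Subgroup G} (L : LocalData (G := G) p P) :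
    L.N = Nat.card G / L.n := by
  rw [← L.n_mul, Nat.mul_div_cancel_left _ (Nat.pos_of_ne_zero fun e => by
    have := L.n_mul; rw [e, zero_mul] at this; exact Nat.card_pos.ne this)]

/-- A prime dividing the order of a centraliser once gives a Sylow subgroup inside it. -/
theorem exists_sylow_le_centralizer {q : ℕ} [Fact q.Prime] {m : ℕ} (h : Nat.card G = q * m) (hm : ¬ q ∣ m)
    {H : Subgroup G} (hd : q ∣ Nat.card (Subgroup.centralizer (H : Set G))) :
    ∃ Q : Sylow q G, (Q : Subgroup G) ≤ Subgroup.centralizer (H : Set G) ∧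
      H ≤ Subgroup.centralizer ((Q : Subgroup G) : Set G) := by
  obtain ⟨⟨u, hu⟩, hu'⟩ := exists_prime_orderOf_dvd_card' q hd
  rw [Subgroup.orderOf_mk] at hu'
  have hm0 : m ≠ 0 := fun e => hm (e ▸ dvd_zero q)
  refine ⟨Sylow.ofCard (Subgroup.zpowers u) ?_, ?_, ?_⟩
  · rw [Nat.card_zpowers, hu', h, Nat.factorization_mul (Fact.out : q.Prime).ne_zero hm0, Finsupp.add_apply,
      (Fact.out : q.Prime).factorization_self, Nat.factorization_eq_zero_of_not_dvd hm]
    simp
  · rw [Sylow.coe_ofCard]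
    exact Subgroup.zpowers_le.2 hu
  · rw [Sylow.coe_ofCard]
    exact Subgroup.le_centralizer_iff.1 (Subgroup.zpowers_le.2 hu)

/-- A Sylow subgroup of order `q` is normalised by a subgroup having no room for a second one. -/
theorem le_normalizer_of_count {q k r : ℕ} [Fact q.Prime] (Q : Sylow q G) {C : Subgroup G}
    (hQC : (Q : Subgroup G) ≤ C) (hk : Nat.card C = k) {R : Subgroup G} (hR : R ≤ C)
    (hRN : R ≤ Subgroup.normalizer ((Q : Subgroup G) : Set G)) (hr : Nat.card R = r)
    (hd : ∀ d, d * r ∣ k → d % q = 1 → d = 1) : C ≤ Subgroup.normalizer ((Q : Subgroup G) : Set G) := by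
  set Q' := Q.subtype hQC
  set N := Subgroup.normalizer ((Q' : Subgroup C) : Set C) with hN
  have hidx : Nat.card (Sylow q C) = N.index := Q'.card_eq_index_normalizer
  have hle : R.subgroupOf C ≤ N := fun x hx => by
    rw [hN, Subgroup.mem_normalizer_iff]
    intro y
    exact Subgroup.mem_normalizer_iff.1 (hRN hx) (y : G)
  have h1 : Nat.card (Sylow q C) * r ∣ k := by
    rw [hidx, ← hk, ← N.index_mul_card]
    refine mul_dvd_mul_left _ ?_
    rw [← hr, ← Nat.card_congr (Subgroup.subgroupOfEquivOfLe hR).toEquiv]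
    exact Subgroup.card_dvd_of_le hle
  have h2 : Nat.card (Sylow q C) % q = 1 := by
    have := card_sylow_modEq_one q C
    rwa [Nat.ModEq, Nat.one_mod_eq_one.mpr (Fact.out : q.Prime).one_lt.ne'] at this
  have h3 : N = ⊤ := Subgroup.index_eq_one.1 (hidx ▸ hd _ h1 h2)
  have h4 : ∀ c ∈ C, ∀ y ∈ (Q : Subgroup G), c * y * c⁻¹ ∈ (Q : Subgroup G) := fun c hc y hy => by
    have h5 : (⟨c, hc⟩ : C) ∈ N := h3 ▸ Subgroup.mem_top _
    exact (Subgroup.mem_normalizer_iff.1 h5 ⟨y, hQC hy⟩).1 hy
  intro c hc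
  rw [Subgroup.mem_normalizer_iff]
  refine fun y => ⟨h4 c hc y, fun hy => ?_⟩
  have := h4 c⁻¹ (inv_mem hc) _ hy
  rwa [show c⁻¹ * (c * y * c⁻¹) * c⁻¹⁻¹ = y by group] at this

/-- Commuting elements of coprime prime orders in an action on fewer points than their product. -/
theorem fixed_or {α : Type*} [MulAction G α] [Finite α] {p q : ℕ} (hp : p.Prime) (hq : q.Prime) (hpq : p ≠ q)
    {x y : G} (hx : orderOf x = p) (hy : orderOf y = q) (hxy : Commute x y) (hn : Nat.card α < p * q) (a : α) :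
    x • a = a ∨ y • a = a := by
  classical
  haveI := Fintype.ofFinite α
  have hcop : Nat.Coprime p q := (Nat.coprime_primes hp hq).2 hpq
  have ho : orderOf (x * y) = p * q := by
    rw [hxy.orderOf_mul_eq_mul_orderOf_of_coprime (by rw [hx, hy]; exact hcop), hx, hy]
  set k := MulAction.period (x * y) a with hk
  have hle : k ≤ Nat.card α := by
    rw [hk, MulAction.period_eq_minimalPeriod, MulAction.minimalPeriod_eq_card, Nat.card_eq_fintype_card]
    exact Fintype.card_subtype_le _
  have hdvd : k ∣ p * q := ho ▸ MulAction.period_dvd_orderOf _ _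
  have key : ∀ {z w : G} {n m : ℕ}, n.Coprime m → orderOf z = n → orderOf w = m → Commute z w →
      MulAction.period (z * w) a ∣ n → w • a = a := by
    intro z w n m hc hz hw hzw hd
    have h1 : (z * w) ^ n • a = a := MulAction.pow_smul_eq_iff_period_dvd.2 hd
    rw [hzw.mul_pow, ← hz, pow_orderOf_eq_one, one_mul, hz] at h1
    have h2 : MulAction.period w a ∣ n := MulAction.pow_smul_eq_iff_period_dvd.1 h1
    have h3 : MulAction.period w a ∣ m := hw ▸ MulAction.period_dvd_orderOf _ _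
    have h4 : MulAction.period w a ∣ 1 := hc ▸ Nat.dvd_gcd h2 h3
    have h5 := MulAction.pow_smul_eq_iff_period_dvd.2 h4
    rwa [pow_one] at h5
  obtain ⟨u, v, hu, hv, huv⟩ := Nat.dvd_mul.1 hdvd
  rcases (Nat.dvd_prime hp).1 hu with rfl | rfl
  · refine Or.inl (key (z := y) (w := x) hcop.symm hy hx hxy.symm ?_)
    rw [← hxy.eq, ← hk, ← huv, one_mul]
    exact hv
  · rcases (Nat.dvd_prime hq).1 hv with rfl | rfl
    · refine Or.inr (key hcop hx hy hxy ?_)
      rw [← hk, ← huv, mul_one]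
    · omega

theorem exists_moved (H : Subgroup G) (hH : H ≠ ⊤) {x : G} (hx : x ≠ 1) : ∃ a : G ⧸ H, x • a ≠ a := by
  by_contra! hc
  have hk : x ∈ (MulAction.toPermHom G (G ⧸ H)).ker :=
    MonoidHom.mem_ker.2 (Equiv.ext fun a => hc a)
  rcases (MulAction.toPermHom G (G ⧸ H)).normal_ker.eq_bot_or_eq_top with e | e
  · exact hx (Subgroup.mem_bot.1 (e ▸ hk))
  · refine hH ((Subgroup.eq_top_iff' H).2 fun g => ?_)
    have h1 := congrArg (fun σ : Equiv.Perm (G ⧸ H) => σ (QuotientGroup.mk (1 : G)))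
      (MonoidHom.mem_ker.1 (e ▸ Subgroup.mem_top g : g ∈ (MulAction.toPermHom G (G ⧸ H)).ker))
    have h2 : (QuotientGroup.mk (g * 1) : G ⧸ H) = QuotientGroup.mk 1 := h1
    rw [mul_one, QuotientGroup.eq, mul_one, inv_mem_iff] at h2
    exact h2

/-- No commuting elements of prime orders `p ≠ q` with a subgroup of index below `p + q`. -/
theorem false_of_index_lt (H : Subgroup G) (hH : H ≠ ⊤) {p q : ℕ} (hp : p.Prime) (hq : q.Prime) (hpq : p ≠ q)
    {x y : G} (hx : orderOf x = p) (hy : orderOf y = q) (hxy : Commute x y) (h1 : H.index < p + q)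
    (h2 : H.index < p * q) : False := by
  classical
  haveI := Fintype.ofFinite (G ⧸ H)
  have hor := fixed_or (α := G ⧸ H) hp hq hpq hx hy hxy (by rwa [← Subgroup.index_eq_card])
  have orb : ∀ (z : G) (r : ℕ), r.Prime → orderOf z = r → ∀ a : G ⧸ H, z • a ≠ a →
      ∃ S : Finset (G ⧸ H), S.card = r ∧ ∀ b ∈ S, z • b ≠ b := by
    intro z r hr hz a ha
    refine ⟨(MulAction.orbit (Subgroup.zpowers z) a).toFinset, ?_, ?_⟩
    · have hcard : Nat.card (MulAction.orbit (Subgroup.zpowers z) a) = MulAction.period z a := by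
        haveI := Fintype.ofFinite (MulAction.orbit (Subgroup.zpowers z) a)
        rw [Nat.card_eq_fintype_card, MulAction.period_eq_minimalPeriod, MulAction.minimalPeriod_eq_card]
        exact Fintype.card_congr' rfl
      rw [Set.toFinset_card, ← Nat.card_eq_fintype_card, hcard]
      refine ((Nat.dvd_prime hr).1 (hz ▸ MulAction.period_dvd_orderOf z a)).resolve_left fun e => ha ?_
      have := MulAction.pow_smul_eq_iff_period_dvd.2 (show MulAction.period z a ∣ 1 by rw [e])
      rwa [pow_one] at this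
    · intro b hb hzb
      rw [Set.mem_toFinset] at hb
      obtain ⟨⟨w, hw⟩, rfl⟩ := hb
      obtain ⟨i, rfl⟩ := Subgroup.mem_zpowers_iff.1 hw
      refine ha ?_
      change z • (z ^ i) • a = (z ^ i) • a at hzb
      rw [smul_smul, (Commute.self_zpow z i).eq, ← smul_smul] at hzb
      exact smul_left_cancel _ hzb
  have hx1 : x ≠ 1 := fun e => hp.ne_one (by rw [← hx, e, orderOf_one])
  have hy1 : y ≠ 1 := fun e => hq.ne_one (by rw [← hy, e, orderOf_one])
  obtain ⟨a, ha⟩ := exists_moved H hH hx1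
  obtain ⟨b, hb⟩ := exists_moved H hH hy1
  obtain ⟨S, hS, hS'⟩ := orb x p hp hx a ha
  obtain ⟨T, hT, hT'⟩ := orb y q hq hy b hb
  have hdisj : Disjoint S T := Finset.disjoint_left.2 fun c hc hc' => (hor c).elim (hS' c hc) (hT' c hc')
  have h3 := Finset.card_le_univ (S ∪ T)
  rw [Finset.card_union_of_disjoint hdisj, hS, hT, ← Nat.card_eq_fintype_card, ← Subgroup.index_eq_card] at h3
  omega

/-- A centraliser of a nontrivial element has no prime power index. -/
theorem index_ne_ppow (hG : ¬ IsMulCommutative G) {z : G} (hz : z ≠ 1) {r a : ℕ} (hr : r.Prime) :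
    ¬ (Subgroup.centralizer ({z} : Set G)).index ∣ r ^ a := by
  intro h
  obtain ⟨b, -, hb⟩ := (Nat.dvd_prime_pow hr).1 h
  rcases Nat.eq_zero_or_pos b with rfl | hb0
  · rw [pow_zero, Subgroup.index_eq_one] at hb
    have hzc : z ∈ Subgroup.center G := Subgroup.mem_center_iff.2 fun g =>
      Subgroup.mem_centralizer_singleton_iff.1 (hb ▸ Subgroup.mem_top g)
    rcases (inferInstance : (Subgroup.center G).Normal).eq_bot_or_eq_top with hc | hc
    · exact hz (Subgroup.mem_bot.1 (hc ▸ hzc))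
    · exact hG ⟨⟨fun g k => (Subgroup.mem_center_iff.1 (hc ▸ Subgroup.mem_top k : k ∈ Subgroup.center G) g)⟩⟩
  · exact CfsgLib.CharBasics.not_isSimpleGroup_of_class_prime_pow hr z hb hb0 inferInstance

theorem centralizer_ne_top (hG : ¬ IsMulCommutative G) {z : G} (hz : z ≠ 1) :
    Subgroup.centralizer ({z} : Set G) ≠ ⊤ := fun e =>
  index_ne_ppow hG hz Nat.prime_two (a := 0) (by rw [e, Subgroup.index_top, pow_zero])

/-- Exhaustion of the possible degrees in a principal block. -/
def search (n : ℕ) (cs : List ℤ) (good : ℤ → ℤ → Bool) : ℕ → ℤ → ℤ → Bool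
  | 0, s, q => !(good s q)
  | k + 1, s, q => cs.all fun D => decide ((n : ℤ) < q + D * D) || search n cs good k (s + D) (q + D * D)

theorem search_spec {n : ℕ} {cs : List ℤ} {good : ℤ → ℤ → Bool} : ∀ (k : ℕ) (s q : ℤ) (f : Fin k → ℤ),
    (∀ i, f i ∈ cs) → q + ∑ i, f i ^ 2 ≤ n → search n cs good k s q = true →
      good (s + ∑ i, f i) (q + ∑ i, f i ^ 2) = false
  | 0, s, q, f, _, _, h => by simpa [search] using h
  | k + 1, s, q, f, hf, hle, h => by
    simp only [search, List.all_eq_true, Bool.or_eq_true, decide_eq_true_eq] at h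
    rw [Fin.sum_univ_succ] at hle
    rcases h _ (hf 0) with h1 | h1
    · have : (0 : ℤ) ≤ ∑ i : Fin k, f i.succ ^ 2 := Finset.sum_nonneg fun i _ => sq_nonneg _
      rw [← sq] at h1
      omega
    · have := search_spec k (s + f 0) (q + f 0 * f 0) (fun i => f i.succ) (fun i => hf _)
        (by rw [← sq, add_assoc]; exact hle) h1
      rw [← sq, add_assoc, add_assoc] at this
      rw [Fin.sum_univ_succ, Fin.sum_univ_succ]
      exact this

/-- No degrees fit a block with `e` ordinary members. -/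
def noBlock (n p b e C : ℕ) : Bool :=
  search n ((cands n p b).filter fun D => decide (bigOf p C < D.natAbs))
    (fun s q => okE n p e (bigOf p C) (-1 - s) q) (e - 1) 0 1

theorem noBlock_false {p b : ℕ} [Fact p.Prime] (hp2 : p ≠ 2) {P : Subgroup G} (L : LocalData (G := G) p P)
    (B : BlockData (G := G) p L.e P) (hb : Nat.card G < (b + 1) ^ 2)
    (h : noBlock (Nat.card G) p b L.e L.C = true) : False := by
  have hodd := (Fact.out : p.Prime).odd_of_ne_two hp2
  have hbig : ∀ z : ℤ, 1 < |z| → (2 ∣ Nat.card (Subgroup.centralizer (P : Set G)) → 2 * (p : ℤ) < |z|) →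
      bigOf p L.C < z.natAbs := fun z h1 h2 => by
    rw [Int.abs_eq_natAbs] at h1 h2
    unfold bigOf
    split_ifs with hev
    · have := h2 (L.hC ▸ Nat.dvd_of_mod_eq_zero hev); omega
    · omega
  have hD : ∀ i, B.D i ∈ (cands (Nat.card G) p b).filter fun D => decide (bigOf p L.C < D.natAbs) :=
    fun i => List.mem_filter.2 ⟨B.D_mem hb i,
      decide_eq_true (hbig _ (B.D_spec i).1 fun hC => (B.large hodd hC).1 i)⟩
  have hn : L.e - 1 = B.n := by have := B.n_eq; omega
  have hnn : (0 : ℤ) ≤ ((p - 1) / L.e : ℕ) * B.E ^ 2 := mul_nonneg (Int.natCast_nonneg _) (sq_nonneg _)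
  have hle : 1 + ∑ i, B.D i ^ 2 ≤ (Nat.card G : ℤ) := by have := B.sq; linarith
  rw [noBlock, hn] at h
  have hs := search_spec B.n 0 1 B.D hD hle h
  rw [zero_add, show -1 - ∑ i, B.D i = B.E by linarith [B.sum]] at hs
  simp only [okE, Bool.and_eq_false_iff, decide_eq_false_iff_not] at hs
  have h1 : bigOf p L.C < B.E.natAbs := hbig _ B.E_spec.1 fun hC => (B.large hodd hC).2
  have h2 : Nat.card G % B.E.natAbs = 0 :=
    Nat.mod_eq_zero_of_dvd (Int.natCast_dvd_natCast.1 (Int.natAbs_dvd.2 B.E_spec.2.1))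
  have h3 : (B.E + L.e) % (p : ℤ) = 0 := Int.emod_eq_zero_of_dvd B.E_spec.2.2
  have h4 := B.sq
  tauto

/-- The class equation at an involution refutes a two member block. -/
def twoBad (n p : ℕ) (k : ℕ) (D A E b : ℤ) : Bool :=
  let v := (n : ℤ) * (D * E + A * A * E + b * b * D)
  let w := (p : ℤ) * D * E
  decide (v ≠ 0) && (decide (v % w ≠ 0) || decide (v / w < 0) ||
    decide ((Nat.sqrt (v / w).toNat) ^ 2 ≠ (v / w).toNat) || decide (Nat.sqrt (v / w).toNat % k ≠ 0))

/-- Every two member block is refuted. -/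
def twoFree (n p b k : ℕ) : Bool :=
  (cands n p b).all fun D =>
    decide ((-1 - D).natAbs ≤ 1) || decide (n % (-1 - D).natAbs ≠ 0) || decide ((-1 - D + 2) % (p : ℤ) ≠ 0) ||
      (avals D).all fun A => !((avals (-1 - D)).contains (-1 - A)) || twoBad n p k D A (-1 - D) (-1 - A)

theorem twoFree_false {p b k : ℕ} [Fact p.Prime] {P : Subgroup G} (B : BlockData (G := G) p 2 P)
    (hCP : Subgroup.centralizer (P : Set G) = P) {y : G} (hy : orderOf y = 2)
    (hk : k ∣ Nat.card (Subgroup.centralizer ({y} : Set G))) (hb : Nat.card G < (b + 1) ^ 2)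
    (h : twoFree (Nat.card G) p b k = true) : False := by
  obtain ⟨i, hi, hE⟩ := B.sum_two
  obtain ⟨A, b', hA, hb', hs, -, -, hform⟩ := B.invol y hy
  have hsum : ∀ {β : Type} [AddCommMonoid β] (g : Fin B.n → β), ∑ j, g j = g i := fun g =>
    Finset.sum_eq_single i (fun j _ hj => absurd (hi j) hj) (fun hh => absurd (Finset.mem_univ _) hh)
  rw [hsum] at hs
  have hf := hform hCP
  rw [hsum] at hf
  obtain rfl : b' = -1 - A i := by linarith
  have hEs := B.E_spec
  have hD0 : (B.D i : ℚ) ≠ 0 := by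
    have h0 : B.D i ≠ 0 := fun e => by have := (B.D_spec i).1; rw [e, abs_zero] at this; omega
    exact_mod_cast h0
  have hE0 : (B.E : ℚ) ≠ 0 := by
    have h0 : B.E ≠ 0 := fun e => by have := hEs.1; rw [e, abs_zero] at this; omega
    exact_mod_cast h0
  simp only [twoFree, List.all_eq_true] at h
  have h1 := h _ (B.D_mem hb i)
  rw [← hE] at h1
  simp only [Bool.or_eq_true, decide_eq_true_eq, List.all_eq_true, Bool.not_eq_true'] at h1
  rcases h1 with ((h1 | h1) | h1) | h1
  · rw [Int.abs_eq_natAbs] at hEs; omega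
  · exact h1 (Nat.mod_eq_zero_of_dvd (Int.natCast_dvd_natCast.1 (Int.natAbs_dvd.2 hEs.2.1)))
  · exact h1 (Int.emod_eq_zero_of_dvd hEs.2.2)
  have h2 := (h1 _ (mem_avals (hA i))).resolve_left (by
    rw [Bool.not_eq_false]; exact List.contains_iff_mem.2 (mem_avals hb'))
  set c := Nat.card (Subgroup.centralizer ({y} : Set G))
  have hmul : ∀ r : ℚ, (Nat.card G : ℚ) * (1 + (A i : ℚ) ^ 2 / B.D i + ((-1 - A i : ℤ) : ℚ) ^ 2 / B.E) = r →
      (((Nat.card G : ℤ) * (B.D i * B.E + A i * A i * B.E + (-1 - A i) * (-1 - A i) * B.D i) : ℤ) : ℚ)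
        = r * B.D i * B.E := by
    intro r hr
    rw [← hr]
    push_cast
    field_simp
  rcases hf with hf | ⟨hf, -⟩
  · have h3 := hmul _ hf
    have h4 : (Nat.card G : ℤ) * (B.D i * B.E + A i * A i * B.E + (-1 - A i) * (-1 - A i) * B.D i) =
        ((c : ℤ) * c) * ((p : ℤ) * B.D i * B.E) := by
      have h5 : (((Nat.card G : ℤ) * (B.D i * B.E + A i * A i * B.E + (-1 - A i) * (-1 - A i) * B.D i) : ℤ) : ℚ) =
          ((((c : ℤ) * c) * ((p : ℤ) * B.D i * B.E) : ℤ) : ℚ) := by
        rw [h3]; push_cast; ring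
      exact_mod_cast h5
    simp only [twoBad, h4, Bool.and_eq_true, Bool.or_eq_true, decide_eq_true_eq] at h2
    obtain ⟨hne, h2⟩ := h2
    have hw : (p : ℤ) * B.D i * B.E ≠ 0 := fun e => hne (by rw [e, mul_zero])
    rw [Int.mul_emod_left, Int.mul_ediv_cancel _ hw, ← Nat.cast_mul, Int.toNat_natCast, Nat.sqrt_eq, sq] at h2
    rcases h2 with ((h2 | h2) | h2) | h2
    · exact h2 rfl
    · omega
    · exact h2 rfl
    · exact h2 (Nat.mod_eq_zero_of_dvd hk)
  · have h3 := hmul 0 (by rw [hf, mul_zero])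
    simp only [twoBad, Bool.and_eq_true, decide_eq_true_eq] at h2
    exact h2.1 (by rw [zero_mul, zero_mul] at h3; exact_mod_cast h3)

/-- A subgroup of index five in a Sylow `5`-subgroup of order `125` meets its centre. -/
theorem exists_central_mem {S Q : Subgroup G} (hS : Nat.card S = 5 ^ 3) (hQS : Q ≤ S) (hQ : Nat.card Q = 5 ^ 2) :
    ∃ z ∈ Q, z ≠ 1 ∧ ∀ g ∈ S, z * g = g * z := by
  haveI : Fact (Nat.Prime 5) := ⟨by norm_num⟩
  have hp : IsPGroup 5 S := IsPGroup.of_card hS
  haveI : Nontrivial S := Finite.one_lt_card_iff_nontrivial.1 (by rw [hS]; norm_num)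
  haveI := hp.center_nontrivial
  by_contra! hcon
  obtain ⟨z0, hz0⟩ := exists_ne (1 : Subgroup.center S)
  set Q' := Q.subgroupOf S
  have hQ' : Nat.card Q' = 5 ^ 2 := by rw [Nat.card_congr (Subgroup.subgroupOfEquivOfLe hQS).toEquiv, hQ]
  have hcomm := (IsPGroup.isMulCommutative_of_card_eq_prime_sq hQ').is_comm.comm
  have hinf : ∀ z : S, z ∈ Q' → z ∈ Subgroup.center S → z = 1 := by
    intro z hzQ hzc
    by_contra hne
    obtain ⟨g, hg, hne'⟩ := hcon (z : G) hzQ (fun e => hne (Subtype.ext e))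
    exact hne' (congrArg Subtype.val (Subgroup.mem_center_iff.1 hzc ⟨g, hg⟩)).symm
  let φ : Subgroup.center S × Q' → S := fun w => (w.1 : S) * (w.2 : S)
  have hinj : Function.Injective φ := by
    rintro ⟨⟨a, ha⟩, ⟨b, hb⟩⟩ ⟨⟨a', ha'⟩, ⟨b', hb'⟩⟩ (he : a * b = a' * b')
    have e1 : a'⁻¹ * a = b' * b⁻¹ := by
      rw [eq_mul_inv_iff_mul_eq, mul_assoc, he, ← mul_assoc, inv_mul_cancel, one_mul]
    have e2 := hinf _ (e1 ▸ mul_mem hb' (inv_mem hb) : a'⁻¹ * a ∈ Q') (mul_mem (inv_mem ha') ha)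
    obtain rfl : a' = a := inv_mul_eq_one.1 e2
    obtain rfl : b = b' := mul_left_cancel he
    rfl
  have hc5 : 5 ≤ Nat.card (Subgroup.center S) := by
    obtain ⟨j, hj⟩ := (hp.to_subgroup (Subgroup.center S)).exists_card_eq
    rcases Nat.eq_zero_or_pos j with rfl | h
    · have := Finite.one_lt_card (α := Subgroup.center S); rw [hj] at this; norm_num at this
    · rw [hj]; exact Nat.le_self_pow h.ne' 5
  have hle := Nat.card_le_card_of_injective φ hinj
  rw [Nat.card_prod, hQ', hS] at hle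
  have hc : Nat.card (Subgroup.center S) = 5 := by norm_num at hle; omega
  have hsur : Function.Surjective φ :=
    ((Nat.bijective_iff_injective_and_card φ).2 ⟨hinj, by rw [Nat.card_prod, hQ', hS, hc]; norm_num⟩).2
  obtain ⟨w, hw⟩ : ∃ w : Q', w ≠ 1 := by
    haveI : Nontrivial Q' := Finite.one_lt_card_iff_nontrivial.1 (by rw [hQ']; norm_num)
    exact exists_ne 1
  refine hw (Subtype.ext (hinf _ w.2 (Subgroup.mem_center_iff.2 fun g => ?_)))
  obtain ⟨⟨a, b⟩, rfl⟩ := hsur g
  show (a : S) * b * w = w * ((a : S) * b)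
  rw [mul_assoc, show (b : S) * w = w * b from congrArg Subtype.val (hcomm b w), ← mul_assoc,
    ← Subgroup.mem_center_iff.1 a.2 (w : S), mul_assoc]

/-- An element of order prime to `r - 1` normalising a subgroup of prime order `r` centralises it. -/
theorem mem_centralizer_of_coprime {R : Subgroup G} {r : ℕ} [Fact r.Prime] (hR : Nat.card R = r) {s : G}
    (hs : s ∈ Subgroup.normalizer (R : Set G)) (hc : Nat.Coprime (orderOf s) (r - 1)) :
    s ∈ Subgroup.centralizer (R : Set G) := by
  haveI : IsCyclic R := isCyclic_of_prime_card hR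
  have h1 : orderOf (R.normalizerMonoidHom ⟨s, hs⟩) ∣ orderOf s :=
    (orderOf_map_dvd _ _).trans (Subgroup.orderOf_mk s hs).dvd
  have h2 : orderOf (R.normalizerMonoidHom ⟨s, hs⟩) ∣ r - 1 := by
    refine orderOf_dvd_natCard _ |>.trans ?_
    rw [IsCyclic.card_mulAut, hR, Nat.totient_prime Fact.out]
  have h3 : (⟨s, hs⟩ : Subgroup.normalizer (R : Set G)) ∈ R.normalizerMonoidHom.ker :=
    MonoidHom.mem_ker.2 (orderOf_eq_one_iff.1 (Nat.eq_one_of_dvd_coprimes hc h1 h2))
  rwa [Subgroup.normalizerMonoidHom_ker] at h3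

end CfsgLib.SmallOrdB
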